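import Mathlib

/-!
# K-fact (KM): the irreducible modules of `SL(2,2^m)` in characteristic 2, model

`F` a field; functions `f : F² → F`; `SL(2,F)` acts by `(g f)(v) = f (v g)` (row vectors). For a finite set `I` of
exponents `L F I` is the span of the functions `mono I J (x,y) = x^(Σ_J 2^j) y^(Σ_(I \ J) 2^j)`, `J ⊆ I`.

* `act g` : the action, `act_mem` : `L F I` is invariant (characteristic 2);
* `card F = 2^m`, `I ⊆ range m`: `linearIndependent`, `finrank_L = 2^|I|`;
* `fixed_iff` : the fixed functions of the group `U` of the matrices `(1 b; 0 1)` in `L F I` are the multiples of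
  `x^μ = mono I I`, `μ = bits I`.
-/

set_option autoImplicit false

namespace Cfsg.Agent.Omega.KM

open Matrix Finset

/-- `Σ_{j ∈ J} 2^j` -/
def bits (J : Finset ℕ) : ℕ := ∑ j ∈ J, 2 ^ j

theorem bits_injective : Function.Injective bits := Finset.geomSum_injective le_rfl

theorem bits_union {J K : Finset ℕ} (h : Disjoint J K) : bits (J ∪ K) = bits J + bits K :=
  Finset.sum_union h

theorem bits_mono {J K : Finset ℕ} (h : J ⊆ K) : bits J ≤ bits K := Finset.sum_le_sum_of_subset h

theorem bits_range (m : ℕ) : bits (range m) + 1 = 2 ^ m := by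
  induction m with
  | zero => simp [bits]
  | succ m ih =>
    unfold bits at *
    rw [Finset.sum_range_succ, pow_succ]
    omega

theorem bits_lt {J : Finset ℕ} {m : ℕ} (h : J ⊆ range m) : bits J < 2 ^ m := by
  have := bits_mono h
  have := bits_range m
  omega

@[simp] theorem bits_empty : bits ∅ = 0 := rfl

@[simp] theorem bits_singleton (i : ℕ) : bits {i} = 2 ^ i := by simp [bits]

theorem pow_bits {M : Type*} [CommMonoid M] (x : M) (J : Finset ℕ) : x ^ bits J = ∏ j ∈ J, x ^ 2 ^ j := by
  unfold bits; rw [Finset.prod_pow_eq_pow_sum]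

variable {F : Type*} [Field F]

/-- the monomial function `x^J y^(I \ J)` -/
def mono (I J : Finset ℕ) : (Fin 2 → F) → F := fun v => v 0 ^ bits J * v 1 ^ bits (I \ J)

theorem mono_apply (I J : Finset ℕ) (v : Fin 2 → F) : mono I J v = v 0 ^ bits J * v 1 ^ bits (I \ J) := rfl

theorem mono_self (I : Finset ℕ) (v : Fin 2 → F) : mono I I v = v 0 ^ bits I := by
  simp [mono_apply]

theorem mono_empty (I : Finset ℕ) (v : Fin 2 → F) : mono I ∅ v = v 1 ^ bits I := by
  simp [mono_apply]

variable (F) in
/-- the module `L(μ)`, `μ = bits I`, as a space of functions on `F²` -/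
def L (I : Finset ℕ) : Submodule F ((Fin 2 → F) → F) :=
  Submodule.span F (Set.range fun J : I.powerset => (mono I J.1 : (Fin 2 → F) → F))

theorem mono_mem {I J : Finset ℕ} (h : J ⊆ I) : (mono I J : (Fin 2 → F) → F) ∈ L F I :=
  Submodule.subset_span ⟨⟨J, Finset.mem_powerset.2 h⟩, rfl⟩

/-- elements of `L F I` by coordinates -/
theorem mem_L_iff {I : Finset ℕ} {f : (Fin 2 → F) → F} :
    f ∈ L F I ↔ ∃ c : Finset ℕ → F, f = ∑ J ∈ I.powerset, c J • mono I J := by
  constructor
  · intro hf
    refine Submodule.span_induction (p := fun f _ => ∃ c : Finset ℕ → F, f = ∑ J ∈ I.powerset, c J • mono I J)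
      ?_ ?_ ?_ ?_ hf
    · rintro _ ⟨⟨J, hJ⟩, rfl⟩
      refine ⟨fun K => if K = J then 1 else 0, ?_⟩
      simp only [ite_smul, one_smul, zero_smul, Finset.sum_ite_eq', hJ, if_true]
    · exact ⟨0, by simp⟩
    · rintro _ _ _ _ ⟨c, rfl⟩ ⟨d, rfl⟩
      exact ⟨c + d, by simp [add_smul, Finset.sum_add_distrib]⟩
    · rintro a _ _ ⟨c, rfl⟩
      exact ⟨a • c, by simp [Finset.smul_sum, smul_smul]⟩
  · rintro ⟨c, rfl⟩
    exact Submodule.sum_mem _ fun J hJ => Submodule.smul_mem _ _ (mono_mem (Finset.mem_powerset.1 hJ))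

/-- the action of `SL(2,F)` on functions on `F²` -/
def act : SpecialLinearGroup (Fin 2) F →* Module.End F ((Fin 2 → F) → F) where
  toFun g :=
    { toFun := fun f v => f (v ᵥ* g.1)
      map_add' := fun _ _ => rfl
      map_smul' := fun _ _ => rfl }
  map_one' := by ext f v; simp
  map_mul' g h := by
    ext f v
    simp [Matrix.vecMul_vecMul]

@[simp] theorem act_apply (g : SpecialLinearGroup (Fin 2) F) (f : (Fin 2 → F) → F) (v : Fin 2 → F) :
    act g f v = f (v ᵥ* g.1) := rfl

theorem prod_mem (I : Finset ℕ) (α β : ℕ → F) :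
    (fun v : Fin 2 → F => ∏ j ∈ I, (α j * v 0 ^ 2 ^ j + β j * v 1 ^ 2 ^ j)) ∈ L F I := by
  rw [mem_L_iff]
  refine ⟨fun J => (∏ j ∈ J, α j) * ∏ j ∈ I \ J, β j, ?_⟩
  funext v
  rw [Finset.prod_add, Finset.sum_apply]
  refine Finset.sum_congr rfl fun J _ => ?_
  simp only [Pi.smul_apply, mono_apply, smul_eq_mul, pow_bits, Finset.prod_mul_distrib]
  ring

/-- `L F I` is invariant under `SL(2,F)`. -/
theorem act_mem [CharP F 2] {I : Finset ℕ} (g : SpecialLinearGroup (Fin 2) F) {f : (Fin 2 → F) → F}
    (hf : f ∈ L F I) : act g f ∈ L F I := by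
  obtain ⟨c, rfl⟩ := mem_L_iff.1 hf
  rw [map_sum]
  refine Submodule.sum_mem _ fun J hJ => ?_
  rw [map_smul]
  refine Submodule.smul_mem _ _ ?_
  have hJI := Finset.mem_powerset.1 hJ
  have : act g (mono I J) = fun v : Fin 2 → F => ∏ j ∈ I,
      ((if j ∈ J then g.1 0 0 ^ 2 ^ j else g.1 0 1 ^ 2 ^ j) * v 0 ^ 2 ^ j +
        (if j ∈ J then g.1 1 0 ^ 2 ^ j else g.1 1 1 ^ 2 ^ j) * v 1 ^ 2 ^ j) := by
    funext v
    rw [act_apply, mono_apply, ← Finset.prod_sdiff hJI, mul_comm, pow_bits, pow_bits]
    congr 1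
    · refine Finset.prod_congr rfl fun j hj => ?_
      have hj' := (Finset.mem_sdiff.1 hj).2
      have : (v ᵥ* g.1) 1 = g.1 0 1 * v 0 + g.1 1 1 * v 1 := by
        simp [Matrix.vecMul, dotProduct, Fin.sum_univ_two, mul_comm]
      rw [this, if_neg hj', if_neg hj', add_pow_char_pow, mul_pow, mul_pow]
    · refine Finset.prod_congr rfl fun j hj => ?_
      have : (v ᵥ* g.1) 0 = g.1 0 0 * v 0 + g.1 1 0 * v 1 := by
        simp [Matrix.vecMul, dotProduct, Fin.sum_univ_two, mul_comm]
      rw [this, if_pos hj, if_pos hj, add_pow_char_pow, mul_pow, mul_pow]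
  rw [this]
  exact prod_mem I _ _

/-- the unipotent matrix `(1 b; 0 1)` -/
def uu (b : F) : SpecialLinearGroup (Fin 2) F := ⟨!![1, b; 0, 1], by simp⟩

/-- the torus element `diag (t, t⁻¹)` -/
def hh (t : Fˣ) : SpecialLinearGroup (Fin 2) F := ⟨!![(t : F), 0; 0, (t⁻¹ : Fˣ)], by simp⟩

/-- the Weyl element `(0 1; 1 0)` in characteristic 2 -/
def ww [CharP F 2] : SpecialLinearGroup (Fin 2) F :=
  ⟨!![0, 1; 1, 0], by rw [det_fin_two_of]; simpa using CharTwo.neg_eq (1 : F)⟩

@[simp] theorem vecMul_uu (b : F) (v : Fin 2 → F) : v ᵥ* (uu b).1 = ![v 0, v 0 * b + v 1] := by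
  funext i
  fin_cases i <;> simp [uu, Matrix.vecMul, dotProduct, Fin.sum_univ_two]

@[simp] theorem vecMul_hh (t : Fˣ) (v : Fin 2 → F) :
    v ᵥ* (hh t).1 = ![v 0 * t, v 1 * ((t⁻¹ : Fˣ) : F)] := by
  funext i
  fin_cases i <;> simp [hh, Matrix.vecMul, dotProduct, Fin.sum_univ_two]

@[simp] theorem vecMul_ww [CharP F 2] (v : Fin 2 → F) : v ᵥ* (ww : SpecialLinearGroup (Fin 2) F).1 = ![v 1, v 0] := by
  funext i
  fin_cases i <;> simp [ww, Matrix.vecMul, dotProduct, Fin.sum_univ_two]

/-! ### finite fields -/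

variable [Fintype F] {m : ℕ}

/-- a polynomial function of degree less than `|F|` that vanishes has zero coefficients -/
theorem coeff_zero (s : Finset ℕ) (hs : ∀ k ∈ s, k < Fintype.card F) (c : ℕ → F)
    (h : ∀ x : F, ∑ k ∈ s, c k * x ^ k = 0) : ∀ k ∈ s, c k = 0 := by
  classical
  set p : Polynomial F := ∑ k ∈ s, Polynomial.C (c k) * Polynomial.X ^ k with hp
  have h0 : p = 0 := by
    by_contra hne
    have hdeg : p.natDegree < Fintype.card F := by
      have hc : 0 < Fintype.card F := Fintype.card_pos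
      refine lt_of_le_of_lt (Polynomial.natDegree_sum_le_of_forall_le (n := Fintype.card F - 1) s _ fun k hk => ?_)
        (by omega)
      refine (Polynomial.natDegree_C_mul_X_pow_le _ _).trans ?_
      have := hs k hk
      omega
    have hroots : (Finset.univ : Finset F) ⊆ p.roots.toFinset := by
      intro x _
      rw [Multiset.mem_toFinset, Polynomial.mem_roots hne, Polynomial.IsRoot]
      simpa [hp, Polynomial.eval_finsetSum] using h x
    have := Finset.card_le_card hroots
    rw [Finset.card_univ] at this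
    have h2 := (Multiset.toFinset_card_le p.roots).trans (Polynomial.card_roots' p)
    omega
  intro k hk
  have := congrArg (fun q : Polynomial F => q.coeff k) h0
  simpa [hp, Polynomial.finsetSum_coeff, Polynomial.coeff_C_mul, Polynomial.coeff_X_pow, hk] using this

/-- the same, indexed by an injective exponent function -/
theorem coeff_zero' {ι : Type*} (s : Finset ι) (e : ι → ℕ) (he : Set.InjOn e s)
    (hs : ∀ k ∈ s, e k < Fintype.card F) (c : ι → F)
    (h : ∀ x : F, ∑ k ∈ s, c k * x ^ e k = 0) : ∀ k ∈ s, c k = 0 := by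
  classical
  intro k hk
  let c' : ℕ → F := fun n => ∑ j ∈ s, if e j = n then c j else 0
  have hc' : ∀ j ∈ s, c' (e j) = c j := by
    intro j hj
    change (∑ i ∈ s, if e i = e j then c i else 0) = c j
    rw [Finset.sum_eq_single j]
    · simp
    · intro i hi hij
      rw [if_neg fun h => hij (he hi hj h)]
    · exact fun h => absurd hj h
  rw [← hc' k hk]
  refine coeff_zero (s.image e) ?_ c' ?_ (e k) (Finset.mem_image_of_mem e hk)
  · intro n hn
    obtain ⟨j, hj, rfl⟩ := Finset.mem_image.1 hn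
    exact hs j hj
  · intro x
    rw [Finset.sum_image he, ← h x]
    exact Finset.sum_congr rfl fun j hj => by rw [hc' j hj]

/-- coordinates of the elements of `L F I` are unique -/
theorem coord_zero (hF : Fintype.card F = 2 ^ m) {I : Finset ℕ} (hI : I ⊆ range m) (c : Finset ℕ → F)
    (h : ∑ J ∈ I.powerset, c J • (mono I J : (Fin 2 → F) → F) = 0) : ∀ J ∈ I.powerset, c J = 0 := by
  refine coeff_zero' I.powerset bits bits_injective.injOn (fun J hJ => ?_) c fun x => ?_
  · rw [hF]
    exact bits_lt ((Finset.mem_powerset.1 hJ).trans hI)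
  · have := congrFun h ![x, 1]
    simpa [Finset.sum_apply, mono_apply] using this

theorem linearIndependent (hF : Fintype.card F = 2 ^ m) {I : Finset ℕ} (hI : I ⊆ range m) :
    LinearIndependent F fun J : I.powerset => (mono I J.1 : (Fin 2 → F) → F) := by
  classical
  rw [Fintype.linearIndependent_iff]
  intro c hc J
  have := coord_zero hF hI (fun J => if h : J ∈ I.powerset then c ⟨J, h⟩ else 0) (by
    rw [← hc, ← Finset.sum_coe_sort I.powerset (fun J => (if h : J ∈ I.powerset then c ⟨J, h⟩ else 0) •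
      (mono I J : (Fin 2 → F) → F))]
    refine Finset.sum_congr rfl fun J _ => ?_
    rw [dif_pos J.2]) J.1 J.2
  simpa using this

theorem finrank_L (hF : Fintype.card F = 2 ^ m) {I : Finset ℕ} (hI : I ⊆ range m) :
    Module.finrank F (L F I) = 2 ^ I.card := by
  classical
  rw [L, finrank_span_eq_card (linearIndependent hF hI), Fintype.card_coe, Finset.card_powerset]

/-- the `U`-fixed elements of `L F I` are the multiples of `x^μ` -/
theorem fixed_iff (hF : Fintype.card F = 2 ^ m) {I : Finset ℕ} (hI : I ⊆ range m) {f : (Fin 2 → F) → F}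
    (hf : f ∈ L F I) (h : ∀ b : F, act (uu b) f = f) : ∃ c : F, f = c • mono I I := by
  classical
  obtain ⟨c, rfl⟩ := mem_L_iff.1 hf
  refine ⟨c I, ?_⟩
  have key : ∀ J ∈ I.powerset.erase I, c J = 0 := by
    refine coeff_zero' (I.powerset.erase I) (fun J => bits (I \ J)) ?_ (fun J hJ => ?_) c fun x => ?_
    · intro J hJ K hK hJK
      have h1 := bits_injective hJK
      have hJ' := Finset.mem_powerset.1 (Finset.mem_of_mem_erase hJ)
      have hK' := Finset.mem_powerset.1 (Finset.mem_of_mem_erase hK)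
      rw [← Finset.sdiff_sdiff_eq_self hJ', h1, Finset.sdiff_sdiff_eq_self hK']
    · rw [hF]
      exact bits_lt (Finset.sdiff_subset.trans hI)
    · have h1 := congrFun (h x) ![1, 0]
      rw [act_apply, vecMul_uu] at h1
      simp only [Finset.sum_apply, Pi.smul_apply, mono_apply, smul_eq_mul, cons_val_zero, cons_val_one,
        one_mul, add_zero, one_pow] at h1
      rw [← Finset.add_sum_erase _ _ (Finset.mem_powerset_self I),
        ← Finset.add_sum_erase I.powerset (fun J => c J * 0 ^ bits (I \ J)) (Finset.mem_powerset_self I)] at h1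
      have h2 : ∑ J ∈ I.powerset.erase I, c J * (0 : F) ^ bits (I \ J) = 0 := by
        refine Finset.sum_eq_zero fun J hJ => ?_
        have hne : bits (I \ J) ≠ 0 := by
          intro h0
          have h3 : I \ J = ∅ := bits_injective (by rw [h0]; rfl)
          have h4 := Finset.mem_powerset.1 (Finset.mem_of_mem_erase hJ)
          exact Finset.ne_of_mem_erase hJ (h4.antisymm (Finset.sdiff_eq_empty_iff_subset.1 h3))
        rw [zero_pow hne, mul_zero]
      rw [h2] at h1
      simp only [Finset.sdiff_self, bits_empty, pow_zero, mul_one, add_zero] at h1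
      linear_combination h1
  rw [← Finset.add_sum_erase _ _ (Finset.mem_powerset_self I), Finset.sum_eq_zero, add_zero]
  intro J hJ
  rw [key J hJ, zero_smul]

end Cfsg.Agent.Omega.KM
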