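import Cfsg.Agent.Omega.KM.Basis
import Cfsg.Agent.Omega.KM.Defs

/-!
# (KM): the main theorem in the model of `Defs.lean`

* `f2` : an irreducible nontrivial `F₂`-module of `SL₂(F)` (as additive group) is the additive
  span of the functions `v ↦ (a v₀ + b v₁)^μ`, `μ = bits I`, `∅ ≠ I ⊆ range m`;
* `stein` : Steinberg's theorem over `F`.
-/

set_option autoImplicit false

namespace Cfsg.Agent.Omega.KM

open Matrix Finset

variable {F : Type*} [Field F]

/-- the `μ`-th power of a linear form -/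
def linp (μ : ℕ) (a : F × F) : (Fin 2 → F) → F := fun v => (a.1 * v 0 + a.2 * v 1) ^ μ

/-- change of model -/
def tr (K : Type*) [Field K] [Algebra K F] : (F × F → F) ≃ₗ[K] ((Fin 2 → F) → F) :=
  LinearEquiv.funCongrLeft K F (finTwoArrowEquiv F)

theorem tr_apply (K : Type*) [Field K] [Algebra K F] (f : F × F → F) (v : Fin 2 → F) :
    tr K f v = f (v 0, v 1) := rfl

theorem act_pair (g : SpecialLinearGroup (Fin 2) F) (v : Fin 2 → F) :
    St.act g (v 0, v 1) = ((v ᵥ* g.1) 0, (v ᵥ* g.1) 1) := by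
  unfold St.act
  simp [Matrix.vecMul, dotProduct, Fin.sum_univ_two]

theorem tr_lin (K : Type*) [Field K] [Algebra K F] (μ : ℕ) (a : F × F) :
    tr K (St.lin (F := F) F μ a) = linp μ a := rfl

theorem ex_eq (J : Finset ℕ) : St.ex J = bits J := rfl

variable [Fintype F] [CharP F 2]

/-- **(KM) for additive groups.** -/
theorem f2 {m : ℕ} (hm : Fintype.card F = 2 ^ m) {V : Type*} [AddCommGroup V] [Nontrivial V]
    (h2 : ∀ v : V, v + v = 0)
    (ρ : SpecialLinearGroup (Fin 2) F →* AddMonoid.End V)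
    (hirr : ∀ W : AddSubgroup V, (∀ g, ∀ w ∈ W, ρ g w ∈ W) → W = ⊥ ∨ W = ⊤)
    (hnt : ∃ g v, ρ g v ≠ v) :
    ∃ I : Finset ℕ, I ⊆ Finset.range m ∧ I.Nonempty ∧
      ∃ Ψ : V →+ ((Fin 2 → F) → F), Function.Injective Ψ ∧
        (∀ g v, Ψ (ρ g v) = act g (Ψ v)) ∧
        Ψ.range = AddSubgroup.closure (Set.range (linp (F := F) (bits I))) := by
  let _ : Algebra (ZMod 2) F := ZMod.algebra F 2
  let _ : Module (ZMod 2) V := AddCommGroup.zmodModule (n := 2) (fun v => by
    rw [two_nsmul]; exact h2 v)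
  let ρ' : SpecialLinearGroup (Fin 2) F →* (V →ₗ[ZMod 2] V) :=
    { toFun := fun g => AddMonoidHom.toZModLinearMap 2 (ρ g)
      map_one' := by
        ext v
        change ρ 1 v = v
        rw [map_one]; rfl
      map_mul' := fun g h => by
        ext v
        change ρ (g * h) v = ρ g (ρ h v)
        rw [map_mul]; rfl }
  have hρ' : ∀ g v, ρ' g v = ρ g v := fun _ _ => rfl
  have hirr' : ∀ W : Submodule (ZMod 2) V, (∀ g, ∀ w ∈ W, ρ' g w ∈ W) → W = ⊥ ∨ W = ⊤ := by
    intro W hW
    rcases hirr W.toAddSubgroup hW with h | h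
    · left
      apply Submodule.toAddSubgroup_injective
      rw [h]; rfl
    · right
      apply Submodule.toAddSubgroup_injective
      rw [h]; rfl
  rcases St.main (F := F) (E := F) ρ' hirr' with h | ⟨μ, hμ1, hμ2, Ψ, hi, he, hr⟩
  · obtain ⟨g, v, hgv⟩ := hnt
    exact absurd (h g v) hgv
  · obtain ⟨I, hI, rfl⟩ := St.exists_ex_lt (m := m) (n := μ) (by
      have := Fintype.one_lt_card (α := F)
      omega)
    refine ⟨I, hI, ?_, ((tr (ZMod 2)).toLinearMap ∘ₗ Ψ).toAddMonoidHom, ?_, ?_, ?_⟩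
    · by_contra hne
      rw [Finset.not_nonempty_iff_eq_empty] at hne
      subst hne
      rw [St.ex_empty] at hμ1
      omega
    · exact (tr (F := F) (ZMod 2)).injective.comp hi
    · intro g v
      funext w
      change Ψ (ρ' g v) (w 0, w 1) = Ψ v ((w ᵥ* g.1) 0, (w ᵥ* g.1) 1)
      rw [he, act_pair]
    · have h1 : ((tr (ZMod 2)).toLinearMap ∘ₗ Ψ).toAddMonoidHom.range =
          (Submodule.map (tr (F := F) (ZMod 2)).toLinearMap (LinearMap.range Ψ)).toAddSubgroup := by
        ext f
        constructor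
        · rintro ⟨v, rfl⟩
          exact ⟨Ψ v, ⟨v, rfl⟩, rfl⟩
        · rintro ⟨_, ⟨v, rfl⟩, rfl⟩
          exact ⟨v, rfl⟩
      rw [h1, hr]
      unfold St.L
      rw [Submodule.map_span, ← Set.range_comp]
      have h2 : (fun a => (tr (F := F) (ZMod 2)).toLinearMap (St.lin F (St.ex I) a)) =
        linp (bits I) := rfl
      change (Submodule.span (ZMod 2) (Set.range (fun a =>
        (tr (F := F) (ZMod 2)).toLinearMap (St.lin F (St.ex I) a)))).toAddSubgroup = _
      rw [h2]
      apply le_antisymm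
      · have h3 : Submodule.span (ZMod 2) (Set.range (linp (F := F) (bits I))) ≤
            AddSubgroup.toZModSubmodule 2
              (AddSubgroup.closure (Set.range (linp (F := F) (bits I)))) := by
          rw [Submodule.span_le]
          exact AddSubgroup.subset_closure
        exact h3
      · rw [AddSubgroup.closure_le]
        exact Submodule.subset_span

/-- **Steinberg's theorem** for `SL₂(F)`, `|F| = 2^m`, over `F`. -/
theorem stein {m : ℕ} (hm : Fintype.card F = 2 ^ m) {M : Type*} [AddCommGroup M] [Module F M]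
    [Nontrivial M] (ρ : SpecialLinearGroup (Fin 2) F →* Module.End F M)
    (hirr : ∀ W : Submodule F M, (∀ g, ∀ w ∈ W, ρ g w ∈ W) → W = ⊥ ∨ W = ⊤) :
    ∃ I : Finset ℕ, I ⊆ Finset.range m ∧ ∃ e : M ≃ₗ[F] L F I,
      ∀ g v, ((e (ρ g v) : L F I) : (Fin 2 → F) → F) = act g (e v : L F I) := by
  rcases St.main (F := F) (E := F) ρ hirr with h | ⟨μ, hμ1, hμ2, Ψ, hi, he, hr⟩
  · -- trivial case
    obtain ⟨v₀, hv₀⟩ := exists_ne (0 : M)
    have hspan : Submodule.span F {v₀} = ⊤ := by
      refine (hirr _ ?_).resolve_left ?_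
      · intro g w hw
        rw [h g w]
        exact hw
      · intro h
        apply hv₀
        have : v₀ ∈ Submodule.span F {v₀} := Submodule.mem_span_singleton_self v₀
        rwa [h, Submodule.mem_bot] at this
    have h1 : Module.finrank F M = 1 := by
      rw [finrank_eq_one_iff']
      refine ⟨v₀, hv₀, fun w => ?_⟩
      have : w ∈ Submodule.span F {v₀} := by rw [hspan]; exact Submodule.mem_top
      exact Submodule.mem_span_singleton.1 this
    have h2 : Module.finrank F (L F (∅ : Finset ℕ)) = 1 := by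
      rw [finrank_L hm (Finset.empty_subset _)]
      simp
    have : FiniteDimensional F M := Module.finite_of_finrank_pos (by omega)
    have : FiniteDimensional F (L F (∅ : Finset ℕ)) := Module.finite_of_finrank_pos (by omega)
    refine ⟨∅, Finset.empty_subset _, LinearEquiv.ofFinrankEq _ _ (h1.trans h2.symm), ?_⟩
    intro g v
    rw [h g v]
    obtain ⟨c, hc⟩ := mem_L_iff.1 (LinearEquiv.ofFinrankEq M (L F (∅ : Finset ℕ)) (h1.trans h2.symm) v).2
    rw [hc]
    ext w
    rw [act_apply]
    simp [mono_apply]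
  · obtain ⟨I, hI, rfl⟩ := St.exists_ex_lt (m := m) (n := μ) (by
      have := Fintype.one_lt_card (α := F)
      omega)
    refine ⟨I, hI, ?_⟩
    have hr2 : LinearMap.range ((tr (F := F) F).toLinearMap ∘ₗ Ψ) = L F I := by
      rw [LinearMap.range_comp, hr, St.L_eq_span hm hI, Submodule.map_span, ← Set.range_comp]
      unfold L
      congr 1
    let e : M ≃ₗ[F] L F I :=
      (LinearEquiv.ofInjective ((tr (F := F) F).toLinearMap ∘ₗ Ψ)
        ((tr (F := F) F).injective.comp hi)).trans (LinearEquiv.ofEq _ _ hr2)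
    refine ⟨e, ?_⟩
    intro g v
    funext w
    change Ψ (ρ g v) (w 0, w 1) = Ψ v ((w ᵥ* g.1) 0, (w ᵥ* g.1) 1)
    rw [he, act_pair]

end Cfsg.Agent.Omega.KM
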