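import Cfsg.Agent.Omega.KM.Model

/-!
# K-fact (KM): the list of the irreducible `F_2 SL(2,2^m)`-modules of order at most `|F|^4`
-/

set_option autoImplicit false

namespace Cfsg.Agent.Omega.KM

open Matrix Finset TensorProduct

universe u v w

theorem small' {m d : ℕ} (hdm : d ∣ m) (hd : 0 < d) {I : Finset ℕ} (hne : I.Nonempty)
    (h : ∀ i ∈ I, (i + d) % m ∈ I) (hI : I ⊆ range m) (hc : d * 2 ^ I.card ≤ 4 * m) :
    (∃ n, n < 4 ∧ I.card = n + 1 ∧ m = d * (n + 1) ∧ ∃ i < m, I = (range (n + 1)).image fun a => (i + d * a) % m) ∨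
      (m = d ∧ I.card = 2) := by
  classical
  obtain ⟨a, ha⟩ := hdm
  have hne' := hne
  obtain ⟨i, hi⟩ := hne
  obtain ⟨h1, h2⟩ := orbit_subset ha hd h hI hi
  have h3 := Finset.card_le_card h1
  rw [h2] at h3
  have h4 : 2 ^ I.card ≤ 4 * a := by
    rw [ha] at hc
    have : d * 2 ^ I.card ≤ d * (4 * a) := by rw [show d * (4 * a) = 4 * (d * a) by ring]; exact hc
    exact le_of_mul_le_mul_left this hd
  have h5 : I.card < 5 := by
    by_contra h6
    have h7 : ∀ n : ℕ, 5 ≤ n → 4 * n < 2 ^ n := by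
      intro n hn
      induction n, hn using Nat.le_induction with
      | base => norm_num
      | succ n hn ih => rw [pow_succ]; omega
    have := h7 I.card (not_lt.1 h6)
    omega
  have h8 : 0 < I.card := Finset.card_pos.2 ⟨i, hi⟩
  have ha0 : 0 < a := by
    rcases Nat.eq_zero_or_pos a with rfl | ha0
    · simp at h4
    · exact ha0
  have him := Finset.mem_range.1 (hI hi)
  by_cases key : a = I.card
  · left
    refine ⟨I.card - 1, by omega, by omega, ?_, i, him, ?_⟩
    · rw [ha, key]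
      congr 1
      omega
    · rw [show I.card - 1 + 1 = a by omega]
      exact (Finset.eq_of_subset_of_card_le h1 (by rw [h2, key])).symm
  · right
    have h9 : (I.card = 2 ∧ a = 1) ∨ (I.card = 3 ∧ a = 2) := by
      interval_cases hc' : I.card <;> omega
    rcases h9 with ⟨h9, h10⟩ | ⟨h9, h10⟩
    · exact ⟨by rw [ha, h10, mul_one], h9⟩
    · exfalso
      have hs : ∑ _i ∈ I, (1 : ZMod 2) = 0 := by
        refine Finset.sum_involution (fun i _ => (i + d) % m) (fun _ _ => by decide) ?_ (fun i hi => h i hi) ?_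
        · intro i hi _ h0
          have him := Finset.mem_range.1 (hI hi)
          rw [ha, h10] at h0 him
          rcases Nat.lt_or_ge (i + d) (d * 2) with h' | h'
          · rw [Nat.mod_eq_of_lt h'] at h0
            omega
          · have : i + d - d * 2 < d * 2 := by omega
            rw [Nat.mod_eq_sub_mod h', Nat.mod_eq_of_lt this] at h0
            omega
        · intro i hi
          have him := Finset.mem_range.1 (hI hi)
          change ((i + d) % m + d) % m = i
          rw [Nat.mod_add_mod, show i + d + d = i + m by rw [ha, h10]; ring, Nat.add_mod_right, Nat.mod_eq_of_lt him]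
      rw [Finset.sum_const, h9] at hs
      exact absurd hs (by decide)

variable {F : Type u} [Field F] {V : Type v} [AddCommGroup V]

/-- the coordinatewise Frobenius on the tensors -/
theorem frob_TM [Fintype F] [CharP F 2] {k : ℕ} (s : Fin k → Fin k) (d n : ℕ) :
    ∃ φ : TM F s d ≃+ TM F s d, ∀ t ε, ((φ t : TM F s d) : (Fin k → Fin 2) → F) ε = t.1 ε ^ 2 ^ n := by
  classical
  let ψ : TM F s d →+ TM F s d :=
    { toFun := fun t => ⟨fun ε => t.1 ε ^ 2 ^ n, fun ε => by
        change t.1 ε ^ 2 ^ n = (t.1 (ε ∘ s) ^ 2 ^ n) ^ 2 ^ d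
        rw [← pow_mul, mul_comm (2 ^ n), pow_mul, ← t.2 ε]⟩
      map_zero' := Subtype.ext (funext fun ε => by
        change (0 : F) ^ 2 ^ n = 0
        rw [zero_pow (by positivity)])
      map_add' := fun x y => Subtype.ext (funext fun ε => by
        change (x.1 ε + y.1 ε) ^ 2 ^ n = x.1 ε ^ 2 ^ n + y.1 ε ^ 2 ^ n
        exact add_pow_char_pow _ _ _ _) }
  have hψ : Function.Injective ψ := by
    intro x y hxy
    refine Subtype.ext (funext fun ε => ?_)
    have h1 : x.1 ε ^ 2 ^ n = y.1 ε ^ 2 ^ n := congrFun (congrArg Subtype.val hxy) ε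
    exact iterateFrobenius_inj F 2 n h1
  exact ⟨AddEquiv.ofBijective ψ ⟨hψ, Finite.injective_iff_surjective.1 hψ⟩, fun t ε => rfl⟩

theorem tact_frob [Fintype F] [CharP F 2] {m : ℕ} (hF : Fintype.card F = 2 ^ m) {k : ℕ} {e e' : Fin k → ℕ} {n : ℕ}
    (he : ∀ a, (e a + n) % m = e' a % m) (g : SpecialLinearGroup (Fin 2) F) (t t' : (Fin k → Fin 2) → F)
    (ht : ∀ ε, t' ε = t ε ^ 2 ^ n) (ε : Fin k → Fin 2) : tact e g t ε ^ 2 ^ n = tact e' g t' ε := by
  classical
  unfold tact
  rw [sum_pow_char_pow]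
  refine Finset.sum_congr rfl fun δ _ => ?_
  rw [mul_pow, ht, ← Finset.prod_pow]
  congr 1
  refine Finset.prod_congr rfl fun a _ => ?_
  rw [← pow_mul, ← pow_add, pow_two_pow_mod hF, he, ← pow_two_pow_mod hF]

/-- transport of the action to the tensors -/
theorem transport [Fintype F] [CharP F 2] {m : ℕ} (hF : Fintype.card F = 2 ^ m) {I : Finset ℕ} (hIm : I ⊆ range m)
    {W : AddSubgroup ((Fin 2 → F) → F)} (h : Form F I W)
    {ρ : SpecialLinearGroup (Fin 2) F →* AddMonoid.End V} (φ : V ≃+ W)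
    (hφ : ∀ g x, ((φ (ρ g x) : W) : (Fin 2 → F) → F) = act g (φ x))
    {d : ℕ} (hD : ∀ x : F, x ∈ h.D ↔ x ^ 2 ^ d = x) {k : ℕ} {e e' : Fin k → ℕ} (he : Function.Injective e)
    (hI : univ.image e = I) {s : Fin k → Fin k} (hs : Function.Bijective s)
    (hes : ∀ a, e (s a) % m = (e a + d) % m) (n : ℕ) (he' : ∀ a, (e a + n) % m = e' a % m) :
    ∃ ψ : V ≃+ TM F s d, ∀ g x, ((ψ (ρ g x) : TM F s d) : (Fin k → Fin 2) → F) = tact e' g (ψ x) := by
  obtain ⟨φ1, hφ1⟩ := h.model hF hIm hD he hI hs hes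
  obtain ⟨φ2, hφ2⟩ := frob_TM (F := F) s d n
  refine ⟨(φ.trans φ1).trans φ2, fun g x => ?_⟩
  funext ε
  change ((φ2 (φ1 (φ (ρ g x))) : TM F s d) : (Fin k → Fin 2) → F) ε = _
  rw [hφ2]
  have h1 : ((φ1 (φ (ρ g x)) : TM F s d) : (Fin k → Fin 2) → F) = tact e g (φ1 (φ x)) := by
    refine tf_injective hF he hI hIm ?_
    rw [hφ1, hφ, ← act_tf, hφ1]
  rw [h1]
  exact tact_frob hF he' g _ _ (fun ε => hφ2 _ _) ε

/-- **(KM)** An irreducible nontrivial `F_2 SL(2,F)`-module of order at most `|F|^4`, `|F| = 2^m`, is one of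

* the orbit module of `n + 1 ≤ 4` digits: `m = d (n + 1)`, tensors `t : (Fin (n + 1) → Fin 2) → F` with
  `t ε = (t (ε ∘ rotate)) ^ 2^d`, action `g ⊗ g^(2^d) ⊗ g^(2^(2d)) ⊗ ...` (`n = 0` natural, `n = 1` `O_4^-`,
  `n = 2` triple tensor), order `2^(d 2^(n+1))`;
* `N ⊗ N^(2^j)`, `0 < j < m`, order `|F|^4`. -/
theorem list [Fintype F] [Finite V] [CharP F 2] {m : ℕ} (hF : Fintype.card F = 2 ^ m)
    (hSt : Stein.{u, max u v} F m) (h2 : ∀ x : V, x + x = 0)
    {ρ : SpecialLinearGroup (Fin 2) F →* AddMonoid.End V} (hρ : IsIrr ρ) (hnt : ∃ g x, ρ g x ≠ x)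
    (hc : Nat.card V ≤ Fintype.card F ^ 4) :
    (∃ n d : ℕ, n < 4 ∧ 0 < d ∧ m = d * (n + 1) ∧ Nat.card V = 2 ^ (d * 2 ^ (n + 1)) ∧
      ∃ ψ : V ≃+ TM F (finRotate (n + 1)) d, ∀ g x,
        ((ψ (ρ g x) : TM F (finRotate (n + 1)) d) : (Fin (n + 1) → Fin 2) → F) = tact (fun a => d * a) g (ψ x)) ∨
    (∃ j : ℕ, 0 < j ∧ j < m ∧ Nat.card V = Fintype.card F ^ 4 ∧
      ∃ ψ : V ≃+ ((Fin 2 → Fin 2) → F), ∀ g x, ψ (ρ g x) = tact ![0, j] g (ψ x)) := by
  classical
  obtain ⟨I, hIm, W, h, φ, hφ⟩ := exists_form hF hSt h2 hρ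
  obtain ⟨d, hd0, hdm, hDc, hrot, hWc, hD⟩ := h.digits hF hIm
  have hm : 0 < m := by
    rcases Nat.eq_zero_or_pos m with rfl | hm
    · have := Fintype.one_lt_card (α := F)
      rw [hF] at this
      simp at this
    · exact hm
  have hne : I.Nonempty := by
    rw [Finset.nonempty_iff_ne_empty]
    rintro rfl
    obtain ⟨g, x, hgx⟩ := hnt
    apply hgx
    apply φ.injective
    apply Subtype.ext
    rw [hφ]
    obtain ⟨c, hc⟩ := mem_L_iff.1 (h.le _ (φ x).2)
    rw [hc]
    funext v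
    simp [act_apply, mono_apply]
  have hVc : Nat.card V = 2 ^ (d * 2 ^ I.card) := (Nat.card_congr φ.toEquiv).trans hWc
  have hc' : d * 2 ^ I.card ≤ 4 * m := by
    rw [hVc, hF, ← pow_mul] at hc
    have := (Nat.pow_le_pow_iff_right (by norm_num : 1 < 2)).1 hc
    omega
  rcases small' hdm hd0 hne hrot hIm hc' with ⟨n, hn, hIc, hmd, i, him, hIi⟩ | ⟨hmd, hI2⟩
  · left
    refine ⟨n, d, hn, hd0, hmd, by rw [hVc, hIc], ?_⟩
    have hcard : ((range (n + 1)).image fun a => (i + d * a) % m).card = (range (n + 1)).card := by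
      rw [← hIi, hIc, card_range]
    have hinj := Finset.card_image_iff.1 hcard
    refine transport (e := fun a : Fin (n + 1) => (i + d * a) % m) hF hIm h φ hφ hD ?_ ?_ (finRotate (n + 1)).bijective
      ?_ (m - i) ?_
    · intro a b hab
      exact Fin.ext (hinj (Finset.mem_coe.2 (Finset.mem_range.2 a.2)) (Finset.mem_coe.2 (Finset.mem_range.2 b.2)) hab)
    · rw [hIi]
      ext x
      simp only [Finset.mem_image, Finset.mem_univ, true_and, Finset.mem_range]
      constructor
      · rintro ⟨a, rfl⟩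
        exact ⟨a, a.2, rfl⟩
      · rintro ⟨a, ha, rfl⟩
        exact ⟨⟨a, ha⟩, rfl⟩
    · intro a
      change (i + d * ((finRotate (n + 1) a : Fin (n + 1)) : ℕ)) % m % m = ((i + d * a) % m + d) % m
      rw [Nat.mod_mod, Nat.mod_add_mod]
      rcases eq_or_ne a (Fin.last n) with rfl | ha
      · rw [finRotate_last]
        rw [Fin.val_last, Fin.val_zero, mul_zero, add_zero, add_assoc, show d * n + d = m by rw [hmd]; ring,
          Nat.add_mod_right]
      · rw [coe_finRotate_of_ne_last ha, mul_add, mul_one, add_assoc]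
    · intro a
      change ((i + d * a) % m + (m - i)) % m = (d * a) % m
      rw [Nat.mod_add_mod, show i + d * (a : ℕ) + (m - i) = d * a + m by omega, Nat.add_mod_right]
  · right
    obtain ⟨i, j, hij, hI⟩ := Finset.card_eq_two.1 hI2
    have hi := Finset.mem_range.1 (hIm (by rw [hI]; simp : i ∈ I))
    have hj := Finset.mem_range.1 (hIm (by rw [hI]; simp : j ∈ I))
    wlog hlt : i < j generalizing i j
    · exact this j i (Ne.symm hij) (by rw [hI, Finset.pair_comm]) hj hi (lt_of_le_of_ne (not_lt.1 hlt) (Ne.symm hij))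
    refine ⟨j - i, by omega, by omega, by rw [hVc, hI2, hF, ← hmd, ← pow_mul]; norm_num, ?_⟩
    have h1 : Function.Injective ![i, j] := by
      intro a b hab
      fin_cases a <;> fin_cases b <;> simp_all
    have h2 : univ.image ![i, j] = I := by
      rw [hI]
      simp [Fin.univ_succ]
    have h3 : ∀ a, ![i, j] (id a) % m = (![i, j] a + d) % m := by
      intro a
      rw [id, ← hmd, Nat.add_mod_right]
    have h4 : ∀ a, (![i, j] a + (m - i)) % m = ![0, j - i] a % m := by
      intro a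
      fin_cases a
      · change (i + (m - i)) % m = 0 % m
        rw [show i + (m - i) = m by omega, Nat.mod_self, Nat.zero_mod]
      · change (j + (m - i)) % m = (j - i) % m
        rw [show j + (m - i) = (j - i) + m by omega, Nat.add_mod_right]
    obtain ⟨ψ, hψ⟩ := transport hF hIm h φ hφ hD h1 h2 Function.bijective_id h3 (m - i) h4
    have htop : ∀ t : (Fin 2 → Fin 2) → F, t ∈ TM F (id : Fin 2 → Fin 2) d := fun t ε => by
      rw [Function.comp_id, ← hmd, ← hF, FiniteField.pow_card]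
    let θ : TM F (id : Fin 2 → Fin 2) d ≃+ ((Fin 2 → Fin 2) → F) :=
      { toFun := fun t => t.1
        invFun := fun t => ⟨t, htop t⟩
        left_inv := fun _ => rfl
        right_inv := fun _ => rfl
        map_add' := fun _ _ => rfl }
    exact ⟨ψ.trans θ, fun g x => hψ g x⟩

end Cfsg.Agent.Omega.KM
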