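import Cfsg.Agent.Omega.KM.Main

/-!
# (KM): the basis of `L μ`

`|F| = 2^m`, `I ⊆ range m`, `μ = ex I = ∑_{i ∈ I} 2^i`.  The functions
`mon I J = x^{ex J} y^{ex (I \ J)}` (`J ⊆ I`) are a basis of `L F E E μ`.
-/

set_option autoImplicit false

namespace Cfsg.Agent.Omega.KM.St

open Matrix Finset

/-- the number with binary digits `J` -/
def ex (J : Finset ℕ) : ℕ := ∑ i ∈ J, 2 ^ i

theorem ex_injective : Function.Injective ex := Finset.geomSum_injective le_rfl

theorem ex_empty : ex ∅ = 0 := rfl

theorem ex_mono {J I : Finset ℕ} (h : J ⊆ I) : ex J ≤ ex I :=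
  Finset.sum_le_sum_of_subset h

theorem ex_add {J I : Finset ℕ} (h : J ⊆ I) : ex J + ex (I \ J) = ex I := by
  unfold ex
  rw [add_comm]
  exact Finset.sum_sdiff h

theorem ex_range (m : ℕ) : ex (Finset.range m) = 2 ^ m - 1 := by
  unfold ex
  have := Nat.geomSum_eq (le_refl 2) m
  rw [this]
  simp

theorem ex_lt {I : Finset ℕ} {m : ℕ} (h : I ⊆ Finset.range m) : ex I < 2 ^ m := by
  have h1 := ex_mono h
  rw [ex_range] at h1
  have := Nat.one_le_two_pow (n := m)
  omega

theorem exists_ex (n : ℕ) : ∃ I : Finset ℕ, ex I = n :=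
  ⟨n.bitIndices.toFinset, Finset.sum_toFinset_bitIndices_two_pow n⟩

theorem exists_ex_lt {n m : ℕ} (h : n < 2 ^ m) : ∃ I : Finset ℕ, I ⊆ Finset.range m ∧ ex I = n := by
  obtain ⟨I, hI⟩ := exists_ex n
  refine ⟨I, ?_, hI⟩
  intro i hi
  rw [Finset.mem_range]
  by_contra hc
  have h1 : 2 ^ i ≤ ex I := Finset.single_le_sum (f := fun i => 2 ^ i) (fun _ _ => Nat.zero_le _) hi
  have h2 : 2 ^ m ≤ 2 ^ i := Nat.pow_le_pow_right (by norm_num) (by omega)
  omega

theorem ex_pos {I : Finset ℕ} (h : I.Nonempty) : 1 ≤ ex I := by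
  obtain ⟨i, hi⟩ := h
  have h1 : 2 ^ i ≤ ex I := Finset.single_le_sum (f := fun i => 2 ^ i) (fun _ _ => Nat.zero_le _) hi
  have := Nat.one_le_two_pow (n := i)
  omega

theorem pow_ex {M : Type*} [CommMonoid M] (x : M) (J : Finset ℕ) :
    x ^ ex J = ∏ i ∈ J, x ^ 2 ^ i := by
  unfold ex
  rw [Finset.prod_pow_eq_pow_sum]

variable {F : Type*} [Field F]

/-- binomial expansion in characteristic 2 -/
theorem add_pow_ex [CharP F 2] (x y : F) (I : Finset ℕ) :
    (x + y) ^ ex I = ∑ J ∈ I.powerset, x ^ ex J * y ^ ex (I \ J) := by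
  rw [pow_ex]
  have : ∀ i ∈ I, (x + y) ^ 2 ^ i = x ^ 2 ^ i + y ^ 2 ^ i := fun i _ => add_pow_char_pow x y 2 i
  rw [Finset.prod_congr rfl this, Finset.prod_add]
  refine Finset.sum_congr rfl fun J _ => ?_
  rw [pow_ex, pow_ex]

/-- the monomial `x^{ex J} y^{ex (I \ J)}` -/
def mon (E : Type*) [Field E] [Algebra F E] (I J : Finset ℕ) : F × F → E :=
  fun p => algebraMap F E (p.1 ^ ex J * p.2 ^ ex (I \ J))

theorem lin_eq [CharP F 2] (E : Type*) [Field E] [Algebra F E] (I : Finset ℕ) (a : F × F) :
    lin E (ex I) a = ∑ J ∈ I.powerset,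
      algebraMap F E (a.1 ^ ex J * a.2 ^ ex (I \ J)) • mon E I J := by
  ext p
  unfold lin
  rw [← map_pow, add_pow_ex, map_sum, Finset.sum_apply]
  refine Finset.sum_congr rfl fun J _ => ?_
  simp only [Pi.smul_apply, smul_eq_mul, mon]
  rw [← map_mul]
  congr 1
  rw [mul_pow, mul_pow]
  ring

section

variable [Fintype F] {E : Type*} [Field E] [Algebra F E]

/-- independence of the functions `x ^ w j`, `w j < |F|` distinct -/
theorem pow_indep {α : Type*} (S : Finset α) (w : α → ℕ) (hw : ∀ a ∈ S, ∀ b ∈ S, w a = w b → a = b)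
    (hlt : ∀ a ∈ S, w a < Fintype.card F) (c : α → E)
    (h : ∀ x : F, ∑ j ∈ S, c j * algebraMap F E (x ^ w j) = 0) : ∀ j ∈ S, c j = 0 := by
  classical
  let P : Polynomial E := ∑ j ∈ S, Polynomial.monomial (w j) (c j)
  have hP : P = 0 := by
    by_cases hS : S.Nonempty
    swap
    · rw [Finset.not_nonempty_iff_eq_empty] at hS
      simp [P, hS]
    apply Polynomial.eq_zero_of_natDegree_lt_card_of_eval_eq_zero P
      (f := fun x : F => algebraMap F E x) (algebraMap F E).injective
    · intro x
      simp only [P, Polynomial.eval_finsetSum, Polynomial.eval_monomial, ← map_pow]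
      exact h x
    · have h1 : P.natDegree ≤ S.sup w := by
        apply Polynomial.natDegree_sum_le_of_forall_le
        intro j hj
        exact (Polynomial.natDegree_monomial_le _).trans (Finset.le_sup hj)
      refine lt_of_le_of_lt h1 ?_
      rw [Finset.sup_lt_iff (by
        obtain ⟨a, ha⟩ := hS
        exact lt_of_le_of_lt bot_le (hlt a ha))]
      exact hlt
  intro j hj
  have h2 : P.coeff (w j) = c j := by
    simp only [P, Polynomial.finsetSum_coeff, Polynomial.coeff_monomial]
    rw [Finset.sum_eq_single j]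
    · rw [if_pos rfl]
    · intro b hb hbj
      rw [if_neg]
      intro h
      exact hbj (hw b hb j hj h)
    · intro h
      exact absurd hj h
  rw [← h2, hP, Polynomial.coeff_zero]

/-- the functions `mon I J` are independent -/
theorem mon_indep {m : ℕ} (hm : Fintype.card F = 2 ^ m) {I : Finset ℕ} (hI : I ⊆ Finset.range m)
    (c : Finset ℕ → E) (h : ∀ p : F × F, ∑ J ∈ I.powerset, c J * mon E I J p = 0) :
    ∀ J ⊆ I, c J = 0 := by
  intro J hJ
  refine pow_indep (F := F) I.powerset ex (fun a _ b _ h => ex_injective h) ?_ c ?_ J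
    (Finset.mem_powerset.2 hJ)
  · intro a ha
    rw [hm]
    exact ex_lt ((Finset.mem_powerset.1 ha).trans hI)
  · intro x
    rw [← h (x, 1)]
    refine Finset.sum_congr rfl fun J _ => ?_
    unfold mon
    simp only [one_pow, mul_one]

theorem mon_linearIndependent {m : ℕ} (hm : Fintype.card F = 2 ^ m) {I : Finset ℕ}
    (hI : I ⊆ Finset.range m) :
    LinearIndependent E (fun J : I.powerset => mon (F := F) E I J.1) := by
  classical
  rw [Fintype.linearIndependent_iff]
  intro c hc
  let c' : Finset ℕ → E := fun J => if h : J ∈ I.powerset then c ⟨J, h⟩ else 0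
  have h1 := mon_indep (F := F) hm hI c' (fun p => by
    have := congrArg (fun f : F × F → E => f p) hc
    simp only [Finset.sum_apply, Pi.smul_apply, smul_eq_mul, Pi.zero_apply] at this
    rw [← this, ← Finset.sum_coe_sort I.powerset]
    refine Finset.sum_congr rfl fun J _ => ?_
    simp only [c']
    rw [dif_pos J.2])
  rintro ⟨J, hJ⟩
  have h2 := h1 J (Finset.mem_powerset.1 hJ)
  simp only [c'] at h2
  rwa [dif_pos hJ] at h2

variable [CharP F 2]

/-- `L F E E (ex I)` is spanned by the monomials -/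
theorem L_eq_span {m : ℕ} (hm : Fintype.card F = 2 ^ m) {I : Finset ℕ}
    (hI : I ⊆ Finset.range m) :
    L F E E (ex I) = Submodule.span E (Set.range fun J : I.powerset => mon (F := F) E I J.1) := by
  classical
  apply le_antisymm
  · unfold L
    rw [Submodule.span_le]
    rintro _ ⟨a, rfl⟩
    rw [lin_eq]
    refine Submodule.sum_mem _ fun J hJ => ?_
    exact Submodule.smul_mem _ _ (Submodule.subset_span ⟨⟨J, hJ⟩, rfl⟩)
  · rw [Submodule.span_le]
    -- coordinates
    let coef : F × F → (I.powerset → E) := fun a J =>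
      algebraMap F E (a.1 ^ ex J.1 * a.2 ^ ex (I \ J.1))
    let T : (I.powerset → E) →ₗ[E] (F × F → E) :=
      Fintype.linearCombination E (fun J : I.powerset => mon (F := F) E I J.1)
    have hT : ∀ a, T (coef a) = lin E (ex I) a := by
      intro a
      rw [lin_eq, Fintype.linearCombination_apply]
      rw [← Finset.sum_coe_sort I.powerset]
    have htop : Submodule.span E (Set.range coef) = ⊤ := by
      by_contra hne
      obtain ⟨f, hf0, hf⟩ := Submodule.exists_le_ker_of_lt_top _ (lt_top_iff_ne_top.2 hne)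
      apply hf0
      let c' : Finset ℕ → E := fun J => if h : J ∈ I.powerset then f (Pi.single ⟨J, h⟩ 1) else 0
      have h1 := mon_indep (F := F) hm hI c' (fun p => by
        have h2 : f (coef p) = 0 := hf (Submodule.subset_span ⟨p, rfl⟩)
        rw [LinearMap.pi_apply_eq_sum_univ f (coef p)] at h2
        rw [← h2, ← Finset.sum_coe_sort I.powerset]
        refine Finset.sum_congr rfl fun J _ => ?_
        simp only [c']
        rw [dif_pos J.2, smul_eq_mul, mul_comm]
        congr 2
        ext j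
        by_cases hj : j = J
        · subst hj; simp
        · rw [Pi.single_eq_of_ne hj]
          simp [Ne.symm hj])
      apply LinearMap.pi_ext
      rintro ⟨J, hJ⟩ x
      have h2 := h1 J (Finset.mem_powerset.1 hJ)
      simp only [c'] at h2
      rw [dif_pos hJ] at h2
      have h3 : (Pi.single (⟨J, hJ⟩ : I.powerset) x : I.powerset → E) =
          x • Pi.single (⟨J, hJ⟩ : I.powerset) (1 : E) := by
        rw [← Pi.single_smul, smul_eq_mul, mul_one]
      rw [h3, map_smul, h2, smul_zero]
      rfl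
    rintro _ ⟨J, rfl⟩
    have h1 : mon (F := F) E I J.1 = T (Pi.single J 1) := by
      simp only [T]
      rw [Fintype.linearCombination_apply_single, one_smul]
    have h2 : T (Pi.single J 1) ∈ Submodule.map T (Submodule.span E (Set.range coef)) := by
      rw [htop]
      exact Submodule.mem_map_of_mem Submodule.mem_top
    rw [LinearMap.map_span] at h2
    change mon E I J.1 ∈ L F E E (ex I)
    rw [h1]
    refine Submodule.span_mono ?_ h2
    rintro _ ⟨_, ⟨a, rfl⟩, rfl⟩
    exact ⟨a, (hT a).symm⟩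

theorem finrank_L {m : ℕ} (hm : Fintype.card F = 2 ^ m) {I : Finset ℕ}
    (hI : I ⊆ Finset.range m) :
    Module.finrank E (L F E E (ex I)) = 2 ^ I.card := by
  rw [L_eq_span hm hI, finrank_span_eq_card (mon_linearIndependent hm hI)]
  simp

end

end Cfsg.Agent.Omega.KM.St
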