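import Cfsg.Agent.Omega.KM.Defs

/-!
# K-fact (KM), Statement 2: irreducible `F_2 SL(2,2^m)`-modules from Statement 1

`Stein F m` : every irreducible finite dimensional `F`-representation of `SL(2,F)`, `|F| = 2^m`, is some `L F I`
(Statement 1, `E = F`).
-/

set_option autoImplicit false

namespace Cfsg.Agent.Omega.KM

open Matrix Finset TensorProduct

universe u v w

/-- **Statement 1** (Steinberg for `SL(2,F)`), coefficients `F`. -/
def Stein (F : Type u) [Field F] (m : ℕ) : Prop :=
  ∀ (M : Type w) [AddCommGroup M] [Module F M] [FiniteDimensional F M] [Nontrivial M]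
    (ρ : SpecialLinearGroup (Fin 2) F →* Module.End F M),
    (∀ N : Submodule F M, (∀ g, ∀ x ∈ N, ρ g x ∈ N) → N = ⊥ ∨ N = ⊤) →
      ∃ I ⊆ range m, ∃ e : M ≃ₗ[F] L F I, ∀ g x, ((e (ρ g x) : L F I) : (Fin 2 → F) → F) = act g (e x)

variable {F : Type u} [Field F] {V : Type v} [AddCommGroup V]

/-- irreducible action on an abelian group -/
structure IsIrr (ρ : SpecialLinearGroup (Fin 2) F →* AddMonoid.End V) : Prop where
  nontriv : Nontrivial V
  irr : ∀ W : AddSubgroup V, (∀ g, ∀ w ∈ W, ρ g w ∈ W) → W = ⊥ ∨ W = ⊤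

/-- existence of an irreducible quotient -/
theorem exists_irr_quotient {M : Type w} [AddCommGroup M] [Module F M] [FiniteDimensional F M] [Nontrivial M]
    (ρ : SpecialLinearGroup (Fin 2) F →* Module.End F M) :
    ∃ N : Submodule F M, (∀ g, ∀ x ∈ N, ρ g x ∈ N) ∧ N ≠ ⊤ ∧
      ∀ K : Submodule F M, (∀ g, ∀ x ∈ K, ρ g x ∈ K) → N ≤ K → K = N ∨ K = ⊤ := by
  classical
  have hwf : WellFounded ((· > ·) : Submodule F M → Submodule F M → Prop) := wellFounded_gt
  obtain ⟨N, ⟨hN, hN1⟩, hmax⟩ := hwf.has_min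
    {N : Submodule F M | (∀ g, ∀ x ∈ N, ρ g x ∈ N) ∧ N ≠ ⊤}
    ⟨⊥, fun g x hx => by rw [Submodule.mem_bot] at *; rw [hx, map_zero], bot_ne_top⟩
  refine ⟨N, hN, hN1, fun K hK hNK => ?_⟩
  by_cases hK1 : K = ⊤
  · exact Or.inr hK1
  · exact Or.inl ((eq_or_lt_of_le hNK).elim Eq.symm fun h => absurd h (hmax K ⟨hK, hK1⟩))

/-- the embedding of an irreducible `F_2`-module in some `L F I` -/
theorem exists_embed [Finite V] [CharP F 2] {m : ℕ} (hSt : Stein.{u, max u v} F m) (h2 : ∀ x : V, x + x = 0)
    {ρ : SpecialLinearGroup (Fin 2) F →* AddMonoid.End V} (hρ : IsIrr ρ) :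
    ∃ I ⊆ range m, ∃ i : V →+ ((Fin 2 → F) → F), Function.Injective i ∧ (∀ x, i x ∈ L F I) ∧
      (∀ g x, i (ρ g x) = act g (i x)) ∧
      ∀ N : Submodule F ((Fin 2 → F) → F), N ≤ L F I → (∀ g, ∀ x ∈ N, act g x ∈ N) → N = ⊥ ∨ N = L F I := by
  classical
  have : Nontrivial V := hρ.nontriv
  let : Module (ZMod 2) V := AddCommGroup.zmodModule (n := 2) fun x => by rw [two_nsmul]; exact h2 x
  let : Algebra (ZMod 2) F := ZMod.algebra F 2
  have hfin : Module.Finite (ZMod 2) V := Module.Finite.of_finite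
  -- the base change
  let r : SpecialLinearGroup (Fin 2) F →* Module.End F (F ⊗[ZMod 2] V) :=
    { toFun := fun g => LinearMap.baseChange F ((ρ g).toZModLinearMap 2)
      map_one' := by
        ext x
        simp
        rfl
      map_mul' := fun g h => by
        ext x
        simp
        rfl }
  have hr : ∀ g (a : F) (x : V), r g (a ⊗ₜ x) = a ⊗ₜ ρ g x := fun g a x => rfl
  have hnt : Nontrivial (F ⊗[ZMod 2] V) := by
    have : FaithfulSMul (ZMod 2) F := (faithfulSMul_iff_algebraMap_injective _ _).2 (algebraMap (ZMod 2) F).injective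
    obtain ⟨x, hx⟩ := exists_ne (0 : V)
    refine ⟨⟨(1 : F) ⊗ₜ x, 0, fun h => hx ?_⟩⟩
    have h1 := Module.Flat.tensorProduct_mk_injective (ZMod 2) V F
    refine h1 ?_
    change (1 : F) ⊗ₜ[ZMod 2] x = (1 : F) ⊗ₜ[ZMod 2] (0 : V)
    rw [h, TensorProduct.tmul_zero]
  obtain ⟨N, hN, hN1, hmax⟩ := exists_irr_quotient r
  let ρ' : SpecialLinearGroup (Fin 2) F →* Module.End F ((F ⊗[ZMod 2] V) ⧸ N) :=
    { toFun := fun g => N.mapQ N (r g) (fun x hx => hN g x hx)
      map_one' := by
        ext x
        simp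
      map_mul' := fun g h => by
        ext x
        simp }
  have hρ' : ∀ g x, ρ' g (N.mkQ x) = N.mkQ (r g x) := fun g x => rfl
  have hnt' : Nontrivial ((F ⊗[ZMod 2] V) ⧸ N) := Submodule.Quotient.nontrivial_iff.2 hN1
  have hirr : ∀ K : Submodule F ((F ⊗[ZMod 2] V) ⧸ N), (∀ g, ∀ x ∈ K, ρ' g x ∈ K) → K = ⊥ ∨ K = ⊤ := by
    intro K hK
    rcases hmax (K.comap N.mkQ) (fun g x hx => by
      rw [Submodule.mem_comap] at *
      rw [← hρ']
      exact hK g _ hx) (by
      intro x hx
      have h0 : N.mkQ x = 0 := (Submodule.Quotient.mk_eq_zero N).2 hx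
      rw [Submodule.mem_comap, h0]
      exact K.zero_mem) with h | h
    · left
      have := congrArg (Submodule.map N.mkQ) h
      rwa [Submodule.map_comap_eq_of_surjective (Submodule.mkQ_surjective N), Submodule.mkQ_map_self] at this
    · right
      have := congrArg (Submodule.map N.mkQ) h
      rwa [Submodule.map_comap_eq_of_surjective (Submodule.mkQ_surjective N), Submodule.map_top,
        Submodule.range_mkQ] at this
  obtain ⟨I, hI, e, he⟩ := hSt _ ρ' hirr
  let j : V →+ (F ⊗[ZMod 2] V) ⧸ N :=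
    { toFun := fun x => N.mkQ ((1 : F) ⊗ₜ x)
      map_zero' := by rw [TensorProduct.tmul_zero, map_zero]
      map_add' := fun x y => by rw [TensorProduct.tmul_add, map_add] }
  have hj : ∀ g x, j (ρ g x) = ρ' g (j x) := fun g x => by
    change N.mkQ ((1 : F) ⊗ₜ ρ g x) = ρ' g (N.mkQ ((1 : F) ⊗ₜ x))
    rw [hρ', hr]
  have hjinj : Function.Injective j := by
    rw [injective_iff_map_eq_zero]
    have := hρ.irr j.ker (fun g x hx => by
      rw [AddMonoidHom.mem_ker] at *
      rw [hj, hx, map_zero])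
    rcases this with h | h
    · intro x hx
      have : x ∈ j.ker := hx
      rw [h] at this
      exact (AddSubgroup.mem_bot).1 this
    · exfalso
      apply hN1
      rw [eq_top_iff]
      intro t _
      induction t using TensorProduct.induction_on with
      | zero => exact N.zero_mem
      | tmul a x =>
        have hx : x ∈ j.ker := by rw [h]; trivial
        have hx' : (1 : F) ⊗ₜ[ZMod 2] x ∈ N := (Submodule.Quotient.mk_eq_zero N).1 hx
        have := N.smul_mem a hx'
        rwa [TensorProduct.smul_tmul', smul_eq_mul, mul_one] at this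
      | add x y hx hy => exact N.add_mem (hx trivial) (hy trivial)
  refine ⟨I, hI, ((L F I).subtype.toAddMonoidHom.comp e.toLinearMap.toAddMonoidHom).comp j, ?_, ?_, ?_, ?_⟩
  · exact Subtype.val_injective.comp (e.injective.comp hjinj)
  · intro x
    exact (e (j x)).2
  · intro g x
    change ((e (j (ρ g x)) : L F I) : (Fin 2 → F) → F) = act g (e (j x))
    rw [hj, he]
  · intro K hK hst
    rcases hirr ((K.comap (L F I).subtype).comap e.toLinearMap) (fun g x hx => by
      change ((e (ρ' g x) : L F I) : (Fin 2 → F) → F) ∈ K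
      rw [he]
      exact hst g _ hx) with h | h
    · left
      rw [eq_bot_iff]
      intro f hf
      have h1 : e.symm ⟨f, hK hf⟩ ∈ (K.comap (L F I).subtype).comap e.toLinearMap := by
        change ((e (e.symm ⟨f, hK hf⟩) : L F I) : (Fin 2 → F) → F) ∈ K
        rw [e.apply_symm_apply]
        exact hf
      rw [h, Submodule.mem_bot, LinearEquiv.map_eq_zero_iff] at h1
      exact congrArg Subtype.val h1
    · right
      refine le_antisymm hK fun f hf => ?_
      have h1 : e.symm ⟨f, hf⟩ ∈ (K.comap (L F I).subtype).comap e.toLinearMap := by rw [h]; trivial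
      change ((e (e.symm ⟨f, hf⟩) : L F I) : (Fin 2 → F) → F) ∈ K at h1
      rwa [e.apply_symm_apply] at h1

/-! ### the fixed vector -/

theorem uu_add (a b : F) : uu (a + b) = uu a * uu b := by
  apply Subtype.ext
  change !![1, a + b; 0, 1] = !![1, a; 0, 1] * !![1, b; 0, 1]
  ext i j
  fin_cases i <;> fin_cases j <;> simp [Matrix.mul_apply, Fin.sum_univ_two, add_comm]

theorem uu_zero : uu (0 : F) = 1 := by
  apply Subtype.ext
  ext i j
  fin_cases i <;> fin_cases j <;> simp [uu]

theorem exists_fixed [Fintype F] [Finite V] {m : ℕ} (hF : Fintype.card F = 2 ^ m) [Nontrivial V]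
    (h2 : ∀ x : V, x + x = 0) (ρ : SpecialLinearGroup (Fin 2) F →* AddMonoid.End V) :
    ∃ x : V, x ≠ 0 ∧ ∀ b : F, ρ (uu b) x = x := by
  classical
  let act' : MulAction (Multiplicative F) V :=
    { smul := fun b x => ρ (uu b.toAdd) x
      one_smul := fun x => by
        change ρ (uu (0 : F)) x = x
        rw [uu_zero, map_one]
        rfl
      mul_smul := fun a b x => by
        change ρ (uu (a.toAdd + b.toAdd)) x = ρ (uu a.toAdd) (ρ (uu b.toAdd) x)
        rw [uu_add, map_mul]
        rfl }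
  have hp : IsPGroup 2 (Multiplicative F) := by
    refine IsPGroup.of_card (n := m) ?_
    rw [Nat.card_eq_fintype_card]
    exact (Fintype.card_multiplicative F).trans hF
  have hV : IsPGroup 2 (Multiplicative V) := fun x => ⟨1, by
    rw [pow_one, pow_two]
    exact h2 x.toAdd⟩
  have hdvd : 2 ∣ Nat.card V := by
    obtain ⟨n, hn⟩ := (IsPGroup.iff_card (p := 2) (G := Multiplicative V)).1 hV
    have h1 : Nat.card V = 2 ^ n := hn
    rw [h1]
    refine dvd_pow_self 2 ?_
    rintro rfl
    rw [pow_zero] at h1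
    exact absurd (Finite.one_lt_card (α := V)) (by omega)
  obtain ⟨x, hx, hne⟩ := hp.exists_fixed_point_of_prime_dvd_card_of_fixed_point V hdvd (a := 0) (by
    intro b
    exact map_zero (ρ (uu b.toAdd)))
  exact ⟨x, hne.symm, fun b => hx (Multiplicative.ofAdd b)⟩

/-! ### the form over a subfield -/

/-- the data: an irreducible `F_2`-submodule `W` of `L F I` containing `x^μ` -/
structure Form (F : Type u) [Field F] (I : Finset ℕ) (W : AddSubgroup ((Fin 2 → F) → F)) : Prop where
  le : ∀ f ∈ W, f ∈ L F I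
  st : ∀ g, ∀ f ∈ W, act g f ∈ W
  top : (mono I I : (Fin 2 → F) → F) ∈ W
  irr : ∀ W' : AddSubgroup ((Fin 2 → F) → F), W' ≤ W → (∀ g, ∀ w ∈ W', act g w ∈ W') → W' = ⊥ ∨ W' = W
  irrF : ∀ N : Submodule F ((Fin 2 → F) → F), N ≤ L F I → (∀ g, ∀ x ∈ N, act g x ∈ N) → N = ⊥ ∨ N = L F I

theorem mono_ne_zero (I : Finset ℕ) : (mono I I : (Fin 2 → F) → F) ≠ 0 := by
  intro h
  have := congrFun h ![1, 0]
  simp [mono_self] at this

namespace Form

variable {I : Finset ℕ} {W : AddSubgroup ((Fin 2 → F) → F)}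

/-- a stable subgroup of `W` containing `x^μ` is `W` -/
theorem eq_of_top (h : Form F I W) {W' : AddSubgroup ((Fin 2 → F) → F)} (hle : W' ≤ W)
    (hst : ∀ g, ∀ w ∈ W', act g w ∈ W') (ht : (mono I I : (Fin 2 → F) → F) ∈ W') : W' = W := by
  refine (h.irr W' hle hst).resolve_left ?_
  rintro rfl
  exact mono_ne_zero I ((AddSubgroup.mem_bot).1 ht)

/-- the field `D = {x | x W ⊆ W}` -/
def D [Finite F] (_h : Form F I W) : Subfield F where
  carrier := {x | ∀ f ∈ W, x • f ∈ W}
  mul_mem' := fun {a b} ha hb f hf => by rw [mul_smul]; exact ha _ (hb _ hf)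
  one_mem' := fun f hf => by rwa [one_smul]
  add_mem' := fun {a b} ha hb f hf => by rw [add_smul]; exact W.add_mem (ha _ hf) (hb _ hf)
  zero_mem' := fun f _ => by rw [zero_smul]; exact W.zero_mem
  neg_mem' := fun {a} ha f hf => by rw [neg_smul]; exact W.neg_mem (ha _ hf)
  inv_mem' := fun a ha => by
    classical
    have := Fintype.ofFinite F
    by_cases h0 : a = 0
    · rw [h0, _root_.inv_zero]
      intro f _
      rw [zero_smul]
      exact W.zero_mem
    · have hpow : ∀ n : ℕ, ∀ f ∈ W, a ^ n • f ∈ W := by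
        intro n
        induction n with
        | zero => intro f hf; rwa [pow_zero, one_smul]
        | succ n ih => intro f hf; rw [pow_succ, mul_smul]; exact ih _ (ha _ hf)
      have h1 : a⁻¹ = a ^ (Fintype.card F - 2) := by
        have hc : 1 < Fintype.card F := Fintype.one_lt_card
        have h2 := FiniteField.pow_card_sub_one_eq_one a h0
        refine inv_eq_of_mul_eq_one_right ?_
        rw [← pow_succ', show Fintype.card F - 2 + 1 = Fintype.card F - 1 by omega, h2]
      rw [h1]
      exact hpow _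

variable [Finite F] (h : Form F I W)

theorem mem_D {x : F} : x ∈ h.D ↔ ∀ f ∈ W, x • f ∈ W := Iff.rfl

/-- `t^μ ∈ D` -/
theorem pow_mem (t : F) : t ^ bits I ∈ h.D := by
  by_cases h0 : t = 0
  · rw [h0]
    by_cases hI : bits I = 0
    · rw [hI, pow_zero]
      exact h.D.one_mem
    · rw [zero_pow hI]
      exact h.D.zero_mem
  · let W' : AddSubgroup ((Fin 2 → F) → F) :=
      { carrier := {f | f ∈ W ∧ t ^ bits I • f ∈ W}
        add_mem' := fun {a b} ha hb => ⟨W.add_mem ha.1 hb.1, by rw [smul_add]; exact W.add_mem ha.2 hb.2⟩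
        zero_mem' := ⟨W.zero_mem, by rw [smul_zero]; exact W.zero_mem⟩
        neg_mem' := fun {a} ha => ⟨W.neg_mem ha.1, by rw [smul_neg]; exact W.neg_mem ha.2⟩ }
    have hW' : W' = W := by
      refine h.eq_of_top (fun f hf => hf.1) (fun g f hf => ⟨h.st g f hf.1, ?_⟩) ⟨h.top, ?_⟩
      · rw [← map_smul]
        exact h.st g _ hf.2
      · have : t ^ bits I • (mono I I : (Fin 2 → F) → F) = act (hh (Units.mk0 t h0)) (mono I I) := by
          funext v
          rw [act_apply, vecMul_hh, mono_self, Pi.smul_apply, mono_self]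
          simp [mul_pow, mul_comm]
        rw [this]
        exact h.st _ _ h.top
    intro f hf
    rw [← hW'] at hf
    exact hf.2

/-- the functions in `W` have values in `D` -/
theorem val_mem {f : (Fin 2 → F) → F} (hf : f ∈ W) (v : Fin 2 → F) : f v ∈ h.D := by
  let W' : AddSubgroup ((Fin 2 → F) → F) :=
    { carrier := {f | f ∈ W ∧ ∀ v, f v ∈ h.D}
      add_mem' := fun {a b} ha hb => ⟨W.add_mem ha.1 hb.1, fun v => h.D.add_mem (ha.2 v) (hb.2 v)⟩
      zero_mem' := ⟨W.zero_mem, fun v => h.D.zero_mem⟩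
      neg_mem' := fun {a} ha => ⟨W.neg_mem ha.1, fun v => h.D.neg_mem (ha.2 v)⟩ }
  have hW' : W' = W := by
    refine h.eq_of_top (fun f hf => hf.1) (fun g f hf => ⟨h.st g f hf.1, fun v => hf.2 _⟩) ⟨h.top, fun v => ?_⟩
    rw [mono_self]
    exact h.pow_mem _
  rw [← hW'] at hf
  exact hf.2 v

/-- `W` as a `D`-space of `D`-valued functions -/
def toD : Submodule h.D ((Fin 2 → F) → h.D) where
  carrier := {f | (fun v => (f v : F)) ∈ W}
  add_mem' := fun ha hb => W.add_mem ha hb
  zero_mem' := W.zero_mem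
  smul_mem' := fun c _ hf => c.2 _ hf

theorem mem_toD {f : (Fin 2 → F) → h.D} : f ∈ h.toD ↔ (fun v => (f v : F)) ∈ W := Iff.rfl

/-- the equivalence `W ≃ toD` -/
def equivD : W ≃+ h.toD where
  toFun f := ⟨fun v => ⟨f.1 v, h.val_mem f.2 v⟩, f.2⟩
  invFun f := ⟨fun v => (f.1 v : F), f.2⟩
  left_inv _ := rfl
  right_inv _ := rfl
  map_add' _ _ := rfl

omit [Finite F] in
include h in
theorem span_eq : Submodule.span F (W : Set ((Fin 2 → F) → F)) = L F I := by
  have hle : Submodule.span F (W : Set ((Fin 2 → F) → F)) ≤ L F I := Submodule.span_le.2 h.le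
  refine (h.irrF _ hle fun g x hx => ?_).resolve_left ?_
  · refine Submodule.span_induction (p := fun x _ => act g x ∈ Submodule.span F (W : Set ((Fin 2 → F) → F)))
      ?_ ?_ ?_ ?_ hx
    · exact fun f hf => Submodule.subset_span (h.st g f hf)
    · rw [map_zero]
      exact Submodule.zero_mem _
    · intro x y _ _ hx hy
      rw [map_add]
      exact Submodule.add_mem _ hx hy
    · intro a x _ hx
      rw [map_smul]
      exact Submodule.smul_mem _ _ hx
  · intro h0
    have : (mono I I : (Fin 2 → F) → F) ∈ Submodule.span F (W : Set ((Fin 2 → F) → F)) :=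
      Submodule.subset_span h.top
    rw [h0] at this
    exact mono_ne_zero I ((Submodule.mem_bot F).1 this)

/-- the general bound: `D`-valued functions in `L F I` -/
theorem finrank_le [Fintype F] {m : ℕ} (hF : Fintype.card F = 2 ^ m) (hI : I ⊆ range m) (D : Subfield F)
    (T : Submodule D ((Fin 2 → F) → D)) (hT : ∀ f ∈ T, (fun v => (f v : F)) ∈ L F I) :
    Module.finrank D T ≤ 2 ^ I.card := by
  classical
  have : Finite T := inferInstance
  have : Module.Finite D T := Module.Finite.of_finite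
  let b := Module.finBasis D T
  have h1 : LinearIndependent D fun i => (b i : (Fin 2 → F) → D) :=
    b.linearIndependent.map' T.subtype T.ker_subtype
  have h2 : LinearIndependent F fun i => algebraMap D F ∘ (b i : (Fin 2 → F) → D) :=
    linearIndependent_algebraMap_comp_iff.2 h1
  have h3 : LinearIndependent F fun i => (⟨algebraMap D F ∘ (b i : (Fin 2 → F) → D), hT _ (b i).2⟩ : L F I) := by
    refine LinearIndependent.of_comp (L F I).subtype ?_
    exact h2
  have h4 := h3.fintype_card_le_finrank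
  rwa [finrank_L hF hI, Fintype.card_fin] at h4

theorem finrank_toD [Fintype F] {m : ℕ} (hF : Fintype.card F = 2 ^ m) (hI : I ⊆ range m) :
    Module.finrank h.D h.toD = 2 ^ I.card := by
  classical
  refine le_antisymm (finrank_le hF hI h.D h.toD fun f hf => h.le _ hf) ?_
  have : Module.Finite h.D h.toD := Module.Finite.of_finite
  let b := Module.finBasis h.D h.toD
  let w : Fin (Module.finrank h.D h.toD) → ((Fin 2 → F) → F) := fun i v => ((b i : (Fin 2 → F) → h.D) v : F)
  have h1 : L F I ≤ Submodule.span F (Set.range w) := by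
    rw [← h.span_eq, Submodule.span_le]
    intro f hf
    have h2 := b.sum_repr ⟨fun v => ⟨f v, h.val_mem hf v⟩, hf⟩
    have h3 : f = ∑ i, ((b.repr ⟨fun v => ⟨f v, h.val_mem hf v⟩, hf⟩ i : h.D) : F) • w i := by
      funext v
      have h4 := congrArg (fun g : h.toD => ((g.1 v : h.D) : F)) h2
      simp only [Submodule.coe_sum, Submodule.coe_smul, Finset.sum_apply, Pi.smul_apply, smul_eq_mul] at h4
      rw [← h4]
      simp [w, Finset.sum_apply, Pi.smul_apply]
    rw [h3]
    exact Submodule.sum_mem _ fun i _ => Submodule.smul_mem _ _ (Submodule.subset_span ⟨i, rfl⟩)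
  have h5 := Submodule.finrank_mono h1
  rw [finrank_L hF hI] at h5
  refine h5.trans ?_
  have h6 := finrank_range_le_card (R := F) w
  rwa [Fintype.card_fin] at h6

/-- `|W| = |D|^(2^|I|)` -/
theorem card_eq [Fintype F] {m : ℕ} (hF : Fintype.card F = 2 ^ m) (hI : I ⊆ range m) :
    Nat.card W = Nat.card h.D ^ 2 ^ I.card := by
  classical
  rw [Nat.card_congr h.equivD.toEquiv, ← h.finrank_toD hF hI]
  have : Fintype h.toD := Fintype.ofFinite _
  have : Fintype h.D := Fintype.ofFinite _
  rw [Nat.card_eq_fintype_card, Nat.card_eq_fintype_card]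
  exact Module.card_eq_pow_finrank

/-- `W` consists of all `D`-valued functions in `L F I` -/
theorem mem_iff [Fintype F] {m : ℕ} (hF : Fintype.card F = 2 ^ m) (hI : I ⊆ range m)
    {f : (Fin 2 → F) → F} : f ∈ W ↔ f ∈ L F I ∧ ∀ v, f v ∈ h.D := by
  classical
  refine ⟨fun hf => ⟨h.le f hf, h.val_mem hf⟩, fun ⟨hf, hv⟩ => ?_⟩
  let T : Submodule h.D ((Fin 2 → F) → h.D) :=
    { carrier := {f | (fun v => (f v : F)) ∈ L F I}
      add_mem' := fun ha hb => (L F I).add_mem ha hb
      zero_mem' := (L F I).zero_mem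
      smul_mem' := fun c _ hf => (L F I).smul_mem (c : F) hf }
  have hle : h.toD ≤ T := fun f hf => h.le _ hf
  have : Module.Finite h.D T := Module.Finite.of_finite
  have heq : h.toD = T := Submodule.eq_of_le_of_finrank_le hle (by
    rw [h.finrank_toD hF hI]
    exact finrank_le hF hI h.D T fun f hf => hf)
  have h1 : (fun v => (⟨f v, hv v⟩ : h.D)) ∈ T := hf
  rw [← heq] at h1
  exact h1

end Form

end Cfsg.Agent.Omega.KM
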