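import Cfsg.Agent.Omega.KM.Func

/-!
# Irreducible modules of `SL₂(F)`, `|F| = 2^m` (K-fact (KM)): embedding into functions on `F²`
-/

set_option autoImplicit false

namespace Cfsg.Agent.Omega.KM.St

open Matrix Finset

/-! ### fixed vectors -/

section fixed

/-- a finite elementary abelian 2-group acting on a group of exponent 2 has a nonzero fixed
vector -/
theorem exists_fixed {F : Type*} [Field F] [Fintype F] [CharP F 2] {D : Type*} [AddCommGroup D]
    (h2 : ∀ d : D, d + d = 0) (A : F → D →+ D) (hA0 : ∀ d, A 0 d = d)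
    (hA : ∀ s t d, A (s + t) d = A s (A t d)) {d₀ : D} (hd₀ : d₀ ≠ 0) :
    ∃ w : D, w ≠ 0 ∧ ∀ s, A s w = w := by
  classical
  suffices h : ∀ S : Finset F, ∃ w : D, w ≠ 0 ∧ ∀ s ∈ S, A s w = w by
    obtain ⟨w, hw, h⟩ := h Finset.univ
    exact ⟨w, hw, fun s => h s (Finset.mem_univ s)⟩
  intro S
  induction S using Finset.induction_on with
  | empty => exact ⟨d₀, hd₀, fun s hs => absurd hs (Finset.notMem_empty s)⟩
  | insert a S _ ih =>
    obtain ⟨w, hw, h⟩ := ih
    by_cases hz : w + A a w = 0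
    · refine ⟨w, hw, fun s hs => ?_⟩
      rcases Finset.mem_insert.1 hs with rfl | hs
      · have := h2 w
        exact (add_left_cancel (this.trans hz.symm)).symm
      · exact h s hs
    · refine ⟨w + A a w, hz, fun s hs => ?_⟩
      rcases Finset.mem_insert.1 hs with rfl | hs
      · rw [map_add, ← hA, CharTwo.add_self_eq_zero, hA0, add_comm]
      · rw [map_add, h s hs, ← hA, add_comm s a, hA, h s hs]

end fixed

/-! ### the setting -/

section main

variable {F : Type*} [Field F] [Fintype F] [CharP F 2]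
  {E : Type*} [Field E] [Algebra F E] {K : Type*} [Field K] [Algebra K E]
  {V : Type*} [AddCommGroup V] [Module K V]
  (ρ : SpecialLinearGroup (Fin 2) F →* (V →ₗ[K] V))

theorem two_E (F : Type*) [Field F] [CharP F 2] {E : Type*} [Field E] [Algebra F E] (e : E) :
    e + e = 0 := by
  have h : algebraMap F E (1 + 1) = 0 := by rw [CharTwo.add_self_eq_zero, map_zero]
  rw [map_add, map_one] at h
  calc e + e = (1 + 1) * e := by ring
    _ = 0 := by rw [h, zero_mul]

omit [Fintype F] [CharP F 2] in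
theorem rho_mul (g h : SpecialLinearGroup (Fin 2) F) (v : V) : ρ (g * h) v = ρ g (ρ h v) := by
  rw [map_mul]; rfl

omit [Fintype F] [CharP F 2] in
theorem rho_one (v : V) : ρ 1 v = v := by
  rw [map_one]; rfl

/-- a functional which is a highest weight vector -/
theorem exists_functional [Nontrivial V] :
    ∃ μ : ℕ, 1 ≤ μ ∧ μ ≤ Fintype.card F - 1 ∧ ∃ φ : V →ₗ[K] E, φ ≠ 0 ∧
      (∀ s v, φ (ρ (uu s) v) = φ v) ∧
      ∀ (t : Fˣ) v, φ (ρ (hh t) v) = (algebraMap F E ((t⁻¹ : Fˣ) : F)) ^ μ * φ v := by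
  classical
  -- a nonzero functional
  obtain ⟨v₁, hv₁⟩ := exists_ne (0 : V)
  obtain ⟨ℓ, hℓ⟩ : ∃ ℓ : Module.Dual K V, ℓ v₁ ≠ 0 := by
    by_contra hc
    push Not at hc
    exact hv₁ ((Module.forall_dual_apply_eq_zero_iff K v₁).1 hc)
  let d₀ : V →ₗ[K] E := (Algebra.linearMap K E) ∘ₗ ℓ
  have hd₀ : d₀ ≠ 0 := by
    intro h
    have := congrArg (fun f : V →ₗ[K] E => f v₁) h
    simp only [d₀, LinearMap.comp_apply, Algebra.linearMap_apply, LinearMap.zero_apply] at this
    exact hℓ ((map_eq_zero (algebraMap K E)).1 this)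
  -- a fixed functional
  obtain ⟨φ₀, hφ₀, hfix⟩ := exists_fixed (F := F) (D := V →ₗ[K] E)
    (fun d => LinearMap.ext fun v => two_E F (d v))
    (fun s => { toFun := fun d => d ∘ₗ ρ (uu s)
                map_zero' := LinearMap.zero_comp _
                map_add' := fun d d' => LinearMap.add_comp _ _ _ })
    (fun d => LinearMap.ext fun v => by
      change d (ρ (uu 0) v) = d v
      rw [uu_zero, rho_one])
    (fun s t d => LinearMap.ext fun v => by
      change d (ρ (uu (s + t)) v) = d (ρ (uu t) (ρ (uu s) v))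
      rw [add_comm, uu_add, rho_mul]) hd₀
  have hfix' : ∀ s v, φ₀ (ρ (uu s) v) = φ₀ v := fun s v =>
    congrArg (fun f : V →ₗ[K] E => f v) (hfix s)
  -- the eigen components
  let ψ : ℕ → V →ₗ[K] E := fun k =>
    ∑ t : Fˣ, (algebraMap F E (t : F)) ^ k • (φ₀ ∘ₗ ρ (hh t))
  have hψ : ∀ k v, ψ k v = ∑ t : Fˣ, (algebraMap F E (t : F)) ^ k * φ₀ (ρ (hh t) v) := by
    intro k v
    simp only [ψ, LinearMap.sum_apply, LinearMap.smul_apply, LinearMap.comp_apply, smul_eq_mul]
  have hcard : Fintype.card F - 1 ≠ 0 := by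
    have := Fintype.one_lt_card (α := F)
    omega
  have hodd : ((Fintype.card F - 1 : ℕ) : E) = 1 := by
    have h1 : ((Fintype.card F - 1 : ℕ) : F) = -1 := by
      rw [Nat.cast_sub Fintype.card_pos, FiniteField.cast_card_eq_zero]
      simp
    have h2 : ((Fintype.card F - 1 : ℕ) : E) = algebraMap F E ((Fintype.card F - 1 : ℕ) : F) := by
      rw [map_natCast]
    rw [h2, h1, CharTwo.neg_eq, map_one]
  have hsum : ∀ t : Fˣ, ∑ k ∈ Finset.range (Fintype.card F - 1),
      (algebraMap F E (t : F)) ^ (k + 1) = if t = 1 then 1 else 0 := by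
    intro t
    split_ifs with h
    · subst h
      simp only [Units.val_one, map_one, one_pow, Finset.sum_const, Finset.card_range, nsmul_eq_mul,
        mul_one]
      exact hodd
    · have h1 : algebraMap F E (t : F) - 1 ≠ 0 := by
        intro h0
        apply h
        apply Units.ext
        have : algebraMap F E (t : F) = algebraMap F E 1 := by rw [map_one]; exact sub_eq_zero.1 h0
        exact (algebraMap F E).injective this
      have h2 : (∑ k ∈ Finset.range (Fintype.card F - 1), (algebraMap F E (t : F)) ^ k) *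
          (algebraMap F E (t : F) - 1) = 0 := by
        rw [geom_sum_mul, ← map_pow, FiniteField.pow_card_sub_one_eq_one _ t.ne_zero, map_one,
          sub_self]
      have h3 := (mul_eq_zero.1 h2).resolve_right h1
      have h4 : ∑ k ∈ Finset.range (Fintype.card F - 1), (algebraMap F E (t : F)) ^ (k + 1) =
          (∑ k ∈ Finset.range (Fintype.card F - 1), (algebraMap F E (t : F)) ^ k) *
            algebraMap F E (t : F) := by
        rw [Finset.sum_mul]
        exact Finset.sum_congr rfl fun k _ => pow_succ _ _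
      rw [h4, h3, zero_mul]
  have htot : ∑ k ∈ Finset.range (Fintype.card F - 1), ψ (k + 1) = φ₀ := by
    ext v
    rw [LinearMap.sum_apply]
    simp only [hψ]
    rw [Finset.sum_comm]
    simp only [← Finset.sum_mul, hsum]
    rw [Finset.sum_eq_single (1 : Fˣ)]
    · rw [if_pos rfl, one_mul, hh_one, rho_one]
    · intro t _ ht
      rw [if_neg ht, zero_mul]
    · intro h
      exact absurd (Finset.mem_univ _) h
  obtain ⟨k, hk, hk0⟩ : ∃ k ∈ Finset.range (Fintype.card F - 1), ψ (k + 1) ≠ 0 := by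
    by_contra hc
    push Not at hc
    exact hφ₀ (htot.symm.trans (Finset.sum_eq_zero hc))
  rw [Finset.mem_range] at hk
  refine ⟨k + 1, by omega, by omega, ψ (k + 1), hk0, ?_, ?_⟩
  · intro s v
    rw [hψ, hψ]
    refine Finset.sum_congr rfl fun t _ => ?_
    rw [← rho_mul, hh_uu, rho_mul, hfix']
  · intro s v
    rw [hψ, hψ, Finset.mul_sum]
    symm
    rw [← Equiv.sum_comp (Equiv.mulRight s)]
    refine Finset.sum_congr rfl fun t _ => ?_
    simp only [Equiv.coe_mulRight]
    have h1 : algebraMap F E ((s⁻¹ : Fˣ) : F) * algebraMap F E ((t * s : Fˣ) : F) =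
        algebraMap F E (t : F) := by
      rw [← map_mul, ← Units.val_mul]
      congr 2
      rw [mul_comm t s, inv_mul_cancel_left]
    rw [← mul_assoc, ← mul_pow, h1, hh_mul, rho_mul]

/-! ### the map to functions -/

/-- the map `V → (F² → E)` attached to a functional -/
noncomputable def Phi [DecidableEq F] (φ : V →ₗ[K] E) : V →ₗ[K] (F × F → E) where
  toFun v p := if p = (0, 0) then 0 else φ (ρ (gv p) v)
  map_add' v w := by
    ext p
    by_cases hp : p = (0, 0)
    · simp [hp]
    · simp [hp]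
  map_smul' c v := by
    ext p
    by_cases hp : p = (0, 0)
    · simp [hp]
    · simp [hp]

omit [Fintype F] [CharP F 2] [Algebra F E] in
theorem Phi_zero [DecidableEq F] (φ : V →ₗ[K] E) (v : V) : Phi ρ φ v (0, 0) = 0 := if_pos rfl

omit [Fintype F] [CharP F 2] [Algebra F E] in
theorem Phi_of_ne [DecidableEq F] (φ : V →ₗ[K] E) (hφ : ∀ s v, φ (ρ (uu s) v) = φ v) (v : V)
    {p : F × F} (hp : p ≠ (0, 0)) {g : SpecialLinearGroup (Fin 2) F} (hg : act g (0, 1) = p) :
    Phi ρ φ v p = φ (ρ g v) := by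
  have h1 : Phi ρ φ v p = φ (ρ (gv p) v) := if_neg hp
  rw [h1]
  obtain ⟨s, hs⟩ := eq_uu_mul ((act_gv hp).trans hg.symm)
  rw [hs, rho_mul, hφ]

omit [Fintype F] [CharP F 2] [Algebra F E] in
theorem Phi_equivariant [DecidableEq F] (φ : V →ₗ[K] E) (hφ : ∀ s v, φ (ρ (uu s) v) = φ v)
    (g : SpecialLinearGroup (Fin 2) F) (v : V) (p : F × F) :
    Phi ρ φ (ρ g v) p = Phi ρ φ v (act g p) := by
  by_cases hp : p = (0, 0)
  · rw [hp, act_zero, Phi_zero, Phi_zero]
  · rw [Phi_of_ne ρ φ hφ (ρ g v) hp (act_gv hp), ← rho_mul]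
    rw [Phi_of_ne ρ φ hφ v (act_ne_zero g hp) (g := gv p * g) (by rw [act_mul, act_gv hp])]

omit [Fintype F] [CharP F 2] in
theorem Phi_homogeneous [DecidableEq F] (φ : V →ₗ[K] E) (hφ : ∀ s v, φ (ρ (uu s) v) = φ v)
    {μ : ℕ} (hT : ∀ (t : Fˣ) v, φ (ρ (hh t) v) = (algebraMap F E ((t⁻¹ : Fˣ) : F)) ^ μ * φ v)
    (v : V) (t : Fˣ) (p : F × F) :
    Phi ρ φ v ((t : F) * p.1, (t : F) * p.2) = (algebraMap F E (t : F)) ^ μ * Phi ρ φ v p := by
  by_cases hp : p = (0, 0)
  · rw [hp]
    simp only [mul_zero]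
    rw [Phi_zero, mul_zero]
  · have hp' : ((t : F) * p.1, (t : F) * p.2) ≠ ((0 : F), (0 : F)) := by
      intro h
      apply hp
      have h1 := congrArg Prod.fst h
      have h2 := congrArg Prod.snd h
      ext
      · exact (mul_eq_zero.1 h1).resolve_left t.ne_zero
      · exact (mul_eq_zero.1 h2).resolve_left t.ne_zero
    rw [Phi_of_ne ρ φ hφ v hp (act_gv hp)]
    rw [Phi_of_ne ρ φ hφ v hp' (g := hh t⁻¹ * gv p)]
    · rw [rho_mul, hT, inv_inv]
    · rw [act_mul, act_hh]
      simp only [mul_zero, inv_inv, mul_one]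
      have := act_smul (gv p) (t : F) (0, 1)
      simp only [mul_zero, mul_one] at this
      rw [this, act_gv hp]

omit [Fintype F] [CharP F 2] [Algebra F E] in
theorem Phi_injective [DecidableEq F] (φ : V →ₗ[K] E) (hφ : ∀ s v, φ (ρ (uu s) v) = φ v)
    (h0 : φ ≠ 0)
    (hirr : ∀ W : Submodule K V, (∀ g, ∀ w ∈ W, ρ g w ∈ W) → W = ⊥ ∨ W = ⊤) :
    Function.Injective (Phi ρ φ) := by
  rw [← LinearMap.ker_eq_bot]
  refine (hirr (LinearMap.ker (Phi ρ φ)) ?_).resolve_right ?_
  · intro g w hw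
    rw [LinearMap.mem_ker] at hw ⊢
    ext p
    rw [Phi_equivariant ρ φ hφ, hw]
    rfl
  · intro h
    apply h0
    ext v
    have hv : v ∈ LinearMap.ker (Phi ρ φ) := by rw [h]; exact Submodule.mem_top
    rw [LinearMap.mem_ker] at hv
    have h1 : Phi ρ φ v (0, 1) = φ (ρ 1 v) :=
      Phi_of_ne ρ φ hφ v (by simp) (act_one _)
    rw [hv, rho_one] at h1
    rw [← h1]
    rfl

end main

end Cfsg.Agent.Omega.KM.St
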