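import Cfsg.Agent.Omega.KM.KM

/-!
# K-fact (KM), explicit: order less than `|F|^4`

`km_lt` : an irreducible nontrivial `F_2 SL(2,F)`-module `V` of order less than `|F|^4`, `|F| = 2^m`, is

* natural: `V ≃+ F²`, `g` acts as `g *ᵥ`;
* `m = 2 d`, `V ≃+ Herm F d = {H | H a b = (H b a)^(2^d)}`, `g` acts as `H ↦ g H (g^σ)ᵀ`, `σ = (·)^(2^d)`, order `2^(4 d)`;
* `m = 3 d`, `V ≃+ Trip F d = {t | t a b c = (t b c a)^(2^d)}`, `g` acts as `g ⊗ g^σ ⊗ g^(σ²)`, order `2^(8 d)`.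
-/

set_option autoImplicit false

namespace Cfsg.Agent.Omega.KM

open Matrix Finset

universe u v w

variable {F : Type u} [Field F] {V : Type v} [AddCommGroup V]

/-- the Hermitian matrices for `σ = (·)^(2^d)` -/
def Herm (F : Type u) [Field F] [CharP F 2] (d : ℕ) : AddSubgroup (Matrix (Fin 2) (Fin 2) F) where
  carrier := {H | ∀ a b, H a b = H b a ^ 2 ^ d}
  add_mem' := fun {x y} hx hy a b => by
    change x a b + y a b = (x b a + y b a) ^ 2 ^ d
    rw [add_pow_char_pow, ← hx, ← hy]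
  zero_mem' := fun a b => by
    change (0 : F) = 0 ^ 2 ^ d
    rw [zero_pow (by positivity)]
  neg_mem' := fun {x} hx a b => by
    change - x a b = (- x b a) ^ 2 ^ d
    rw [CharTwo.neg_eq, CharTwo.neg_eq]
    exact hx a b

theorem mem_Herm [CharP F 2] {d : ℕ} {H : Matrix (Fin 2) (Fin 2) F} :
    H ∈ Herm F d ↔ ∀ a b, H a b = H b a ^ 2 ^ d := Iff.rfl

/-- the cyclic tensors of degree 3 for `σ = (·)^(2^d)` -/
def Trip (F : Type u) [Field F] [CharP F 2] (d : ℕ) : AddSubgroup (Fin 2 → Fin 2 → Fin 2 → F) where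
  carrier := {t | ∀ a b c, t a b c = t b c a ^ 2 ^ d}
  add_mem' := fun {x y} hx hy a b c => by
    change x a b c + y a b c = (x b c a + y b c a) ^ 2 ^ d
    rw [add_pow_char_pow, ← hx, ← hy]
  zero_mem' := fun a b c => by
    change (0 : F) = 0 ^ 2 ^ d
    rw [zero_pow (by positivity)]
  neg_mem' := fun {x} hx a b c => by
    change - x a b c = (- x b c a) ^ 2 ^ d
    rw [CharTwo.neg_eq, CharTwo.neg_eq]
    exact hx a b c

theorem mem_Trip [CharP F 2] {d : ℕ} {t : Fin 2 → Fin 2 → Fin 2 → F} :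
    t ∈ Trip F d ↔ ∀ a b c, t a b c = t b c a ^ 2 ^ d := Iff.rfl

theorem rot2 (a b : Fin 2) : (![a, b] : Fin 2 → Fin 2) ∘ finRotate 2 = ![b, a] := by
  funext i
  fin_cases i <;> rfl

theorem rot3 (a b c : Fin 2) : (![a, b, c] : Fin 3 → Fin 2) ∘ finRotate 3 = ![b, c, a] := by
  funext i
  fin_cases i <;> rfl

theorem eta2 (ε : Fin 2 → Fin 2) : ![ε 0, ε 1] = ε := by
  funext i
  fin_cases i <;> rfl

theorem eta3 (ε : Fin 3 → Fin 2) : ![ε 0, ε 1, ε 2] = ε := by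
  funext i
  fin_cases i <;> rfl

theorem sum2 {M : Type*} [AddCommMonoid M] (f : (Fin 2 → Fin 2) → M) : ∑ ε, f ε = ∑ a, ∑ b, f ![a, b] := by
  rw [← Finset.sum_product']
  refine (Finset.sum_bij' (fun p _ => ![p.1, p.2]) (fun ε _ => (ε 0, ε 1)) ?_ ?_ ?_ ?_ ?_).symm
  · simp
  · simp
  · intro p _; rfl
  · intro ε _; exact eta2 ε
  · intro p _; rfl

theorem sum3 {M : Type*} [AddCommMonoid M] (f : (Fin 3 → Fin 2) → M) :
    ∑ ε, f ε = ∑ a, ∑ b, ∑ c, f ![a, b, c] := by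
  have h1 : ∀ a : Fin 2, ∑ b, ∑ c, f ![a, b, c] = ∑ p : Fin 2 × Fin 2, f ![a, p.1, p.2] := fun a =>
    (Fintype.sum_prod_type fun p : Fin 2 × Fin 2 => f ![a, p.1, p.2]).symm
  rw [Finset.sum_congr rfl fun a _ => h1 a, ← Finset.sum_product']
  refine (Finset.sum_bij' (fun p _ => ![p.1, p.2.1, p.2.2]) (fun ε _ => (ε 0, (ε 1, ε 2))) ?_ ?_ ?_ ?_ ?_).symm
  · simp
  · simp
  · intro p _; rfl
  · intro ε _; exact eta3 ε
  · intro p _; rfl

/-- **(KM)**, explicit form for `|V| < |F|^4`. -/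
theorem km_lt [Fintype F] [Finite V] [CharP F 2] {m : ℕ} (hF : Fintype.card F = 2 ^ m) (h2 : ∀ x : V, x + x = 0)
    {ρ : SpecialLinearGroup (Fin 2) F →* AddMonoid.End V} (hρ : IsIrr ρ) (hnt : ∃ g x, ρ g x ≠ x)
    (hc : Nat.card V < Fintype.card F ^ 4) :
    (∃ e : V ≃+ (Fin 2 → F), ∀ g x, e (ρ g x) = g.1 *ᵥ e x) ∨
    (∃ d, 0 < d ∧ m = 2 * d ∧ Nat.card V = 2 ^ (4 * d) ∧
      ∃ e : V ≃+ Herm F d, ∀ g x, ((e (ρ g x) : Herm F d) : Matrix (Fin 2) (Fin 2) F) =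
        g.1 * (e x : Matrix (Fin 2) (Fin 2) F) * (g.1.map (· ^ 2 ^ d))ᵀ) ∨
    (∃ d, 0 < d ∧ m = 3 * d ∧ Nat.card V = 2 ^ (8 * d) ∧
      ∃ e : V ≃+ Trip F d, ∀ g x a b c, ((e (ρ g x) : Trip F d) : Fin 2 → Fin 2 → Fin 2 → F) a b c =
        ∑ a', ∑ b', ∑ c', g.1 a a' * g.1 b b' ^ 2 ^ d * g.1 c c' ^ 2 ^ (2 * d) *
          (e x : Fin 2 → Fin 2 → Fin 2 → F) a' b' c') := by
  rcases km hF h2 hρ hnt hc.le with ⟨n, d, hn, hd, hm, hcard, ψ, hψ⟩ | ⟨j, _, _, hcard, _⟩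
  swap
  · omega
  have hn3 : n < 3 := by
    by_contra h
    have hn' : n = 3 := by omega
    subst hn'
    rw [hcard, hF, ← pow_mul] at hc
    have := (Nat.pow_lt_pow_iff_right (by norm_num : 1 < 2)).1 hc
    omega
  interval_cases n
  · left
    have hmd : m = d := by omega
    let θ : TM F (finRotate (0 + 1)) d ≃+ (Fin 2 → F) :=
      { toFun := fun t a => t.1 fun _ => a
        invFun := fun s => ⟨fun ε => s (ε 0), fun ε => by
          rw [← hmd, ← hF, FiniteField.pow_card]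
          rfl⟩
        left_inv := fun t => Subtype.ext (funext fun ε => congrArg t.1 (funext fun i => by
          rw [show i = 0 from Fin.ext (by omega)]))
        right_inv := fun _ => rfl
        map_add' := fun _ _ => rfl }
    refine ⟨ψ.trans θ, fun g x => ?_⟩
    funext a
    change ((ψ (ρ g x) : TM F (finRotate (0 + 1)) d) : (Fin (0 + 1) → Fin 2) → F) (fun _ => a) = _
    rw [hψ]
    change ∑ δ : Fin 1 → Fin 2, (∏ b : Fin 1, g.1 a (δ b) ^ 2 ^ (d * (b : ℕ))) *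
      ((ψ x : TM F (finRotate (0 + 1)) d) : (Fin (0 + 1) → Fin 2) → F) δ = ∑ b, g.1 a b * _
    rw [← (Equiv.funUnique (Fin 1) (Fin 2)).symm.sum_comp]
    refine Finset.sum_congr rfl fun b _ => ?_
    rw [Fin.prod_univ_one]
    change g.1 a b ^ 2 ^ (d * 0) * _ = g.1 a b * _
    rw [mul_zero, pow_zero, pow_one]
    rfl
  · right; left
    refine ⟨d, hd, by omega, by rw [hcard]; congr 1; omega, ?_⟩
    let θ : TM F (finRotate (1 + 1)) d ≃+ Herm F d :=
      { toFun := fun t => ⟨fun a b => t.1 ![a, b], fun a b => by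
          have := t.2 ![a, b]
          rw [rot2] at this
          exact this⟩
        invFun := fun H => ⟨fun ε => H.1 (ε 0) (ε 1), fun ε => H.2 (ε 0) (ε 1)⟩
        left_inv := fun t => Subtype.ext (funext fun ε => congrArg t.1 (eta2 ε))
        right_inv := fun _ => rfl
        map_add' := fun _ _ => rfl }
    refine ⟨ψ.trans θ, fun g x => ?_⟩
    ext a b
    change ((ψ (ρ g x) : TM F (finRotate (1 + 1)) d) : (Fin (1 + 1) → Fin 2) → F) ![a, b] = _
    rw [hψ]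
    change ∑ δ : Fin 2 → Fin 2, (∏ i : Fin 2, g.1 (![a, b] i) (δ i) ^ 2 ^ (d * (i : ℕ))) *
      ((ψ x : TM F (finRotate (1 + 1)) d) : (Fin (1 + 1) → Fin 2) → F) δ = _
    rw [sum2]
    simp only [Fin.prod_univ_two, Matrix.mul_apply, Fin.sum_univ_two, cons_val_zero, cons_val_one, Fin.val_zero,
      Fin.val_one, mul_zero, mul_one, pow_zero, pow_one, Matrix.transpose_apply, Matrix.map_apply]
    change _ = (g.1 a 0 * ((ψ x : TM F (finRotate (1 + 1)) d) : (Fin (1 + 1) → Fin 2) → F) ![0, 0] +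
      g.1 a 1 * ((ψ x : TM F (finRotate (1 + 1)) d) : (Fin (1 + 1) → Fin 2) → F) ![1, 0]) * g.1 b 0 ^ 2 ^ d +
      (g.1 a 0 * ((ψ x : TM F (finRotate (1 + 1)) d) : (Fin (1 + 1) → Fin 2) → F) ![0, 1] +
      g.1 a 1 * ((ψ x : TM F (finRotate (1 + 1)) d) : (Fin (1 + 1) → Fin 2) → F) ![1, 1]) * g.1 b 1 ^ 2 ^ d
    ring
  · right; right
    refine ⟨d, hd, by omega, by rw [hcard]; congr 1; omega, ?_⟩
    let θ : TM F (finRotate (2 + 1)) d ≃+ Trip F d :=
      { toFun := fun t => ⟨fun a b c => t.1 ![a, b, c], fun a b c => by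
          have := t.2 ![a, b, c]
          rw [rot3] at this
          exact this⟩
        invFun := fun H => ⟨fun ε => H.1 (ε 0) (ε 1) (ε 2), fun ε => H.2 (ε 0) (ε 1) (ε 2)⟩
        left_inv := fun t => Subtype.ext (funext fun ε => congrArg t.1 (eta3 ε))
        right_inv := fun _ => rfl
        map_add' := fun _ _ => rfl }
    refine ⟨ψ.trans θ, fun g x a b c => ?_⟩
    change ((ψ (ρ g x) : TM F (finRotate (2 + 1)) d) : (Fin (2 + 1) → Fin 2) → F) ![a, b, c] = _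
    rw [hψ]
    change ∑ δ : Fin 3 → Fin 2, (∏ i : Fin 3, g.1 (![a, b, c] i) (δ i) ^ 2 ^ (d * (i : ℕ))) *
      ((ψ x : TM F (finRotate (2 + 1)) d) : (Fin (2 + 1) → Fin 2) → F) δ = _
    rw [sum3]
    refine Finset.sum_congr rfl fun a' _ => Finset.sum_congr rfl fun b' _ => Finset.sum_congr rfl fun c' _ => ?_
    rw [Fin.prod_univ_three]
    change g.1 a a' ^ 2 ^ (d * 0) * g.1 b b' ^ 2 ^ (d * 1) * g.1 c c' ^ 2 ^ (d * 2) * _ = _
    rw [mul_zero, mul_one, pow_zero, pow_one, mul_comm d 2]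
    rfl

end Cfsg.Agent.Omega.KM
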