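import Mathlib

/-!
# Irreducible modules of `SL₂(F)`, `|F| = 2^m`, in characteristic 2 (K-fact (KM))

Part 1: `SL₂(F)` acting on row vectors from the right: `act (g * h) v = act h (act g v)`;
the elements `uu s` (upper unipotent), `hh t` (torus), `ww`, and `gg s`.
-/

set_option autoImplicit false
set_option linter.unusedSimpArgs false

namespace Cfsg.Agent.Omega.KM.St

open Matrix Finset

section act

variable {F : Type*} [Field F]

/-- row vector times matrix -/
def act (g : SpecialLinearGroup (Fin 2) F) (v : F × F) : F × F :=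
  (v.1 * g 0 0 + v.2 * g 1 0, v.1 * g 0 1 + v.2 * g 1 1)

theorem mul_entry (g h : SpecialLinearGroup (Fin 2) F) (i j : Fin 2) :
    (g * h) i j = g i 0 * h 0 j + g i 1 * h 1 j := by
  have : ((g * h : SpecialLinearGroup (Fin 2) F) : Matrix (Fin 2) (Fin 2) F) =
      (g : Matrix (Fin 2) (Fin 2) F) * (h : Matrix (Fin 2) (Fin 2) F) := rfl
  change ((g * h : SpecialLinearGroup (Fin 2) F) : Matrix (Fin 2) (Fin 2) F) i j = _
  rw [this, Matrix.mul_apply, Fin.sum_univ_two]

theorem ext2 {g h : SpecialLinearGroup (Fin 2) F} (e00 : g 0 0 = h 0 0) (e01 : g 0 1 = h 0 1)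
    (e10 : g 1 0 = h 1 0) (e11 : g 1 1 = h 1 1) : g = h := by
  apply Subtype.ext
  ext i j
  fin_cases i <;> fin_cases j
  · exact e00
  · exact e01
  · exact e10
  · exact e11

theorem act_mul (g h : SpecialLinearGroup (Fin 2) F) (v : F × F) :
    act (g * h) v = act h (act g v) := by
  unfold act
  simp only [mul_entry]
  ext <;> simp <;> ring

theorem one_entry00 : (1 : SpecialLinearGroup (Fin 2) F) 0 0 = 1 := rfl
theorem one_entry01 : (1 : SpecialLinearGroup (Fin 2) F) 0 1 = 0 := rfl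
theorem one_entry10 : (1 : SpecialLinearGroup (Fin 2) F) 1 0 = 0 := rfl
theorem one_entry11 : (1 : SpecialLinearGroup (Fin 2) F) 1 1 = 1 := rfl

theorem act_one (v : F × F) : act 1 v = v := by
  unfold act
  rw [one_entry00, one_entry01, one_entry10, one_entry11]
  ext <;> simp

theorem act_smul (g : SpecialLinearGroup (Fin 2) F) (t : F) (v : F × F) :
    act g (t * v.1, t * v.2) = (t * (act g v).1, t * (act g v).2) := by
  unfold act
  ext <;> simp <;> ring

theorem act_zero (g : SpecialLinearGroup (Fin 2) F) : act g (0, 0) = (0, 0) := by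
  unfold act
  simp

theorem act_injective (g : SpecialLinearGroup (Fin 2) F) : Function.Injective (act g) := by
  intro v w h
  have := congrArg (act g⁻¹) h
  rwa [← act_mul, ← act_mul, mul_inv_cancel, act_one, act_one] at this

theorem det_eq (g : SpecialLinearGroup (Fin 2) F) : g 0 0 * g 1 1 - g 0 1 * g 1 0 = 1 := by
  have := g.2
  rwa [Matrix.det_fin_two] at this

/-- upper unipotent -/
def uu (s : F) : SpecialLinearGroup (Fin 2) F := ⟨!![1, s; 0, 1], by simp [Matrix.det_fin_two]⟩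

theorem uu00 (s : F) : uu s 0 0 = 1 := rfl
theorem uu01 (s : F) : uu s 0 1 = s := rfl
theorem uu10 (s : F) : uu s 1 0 = 0 := rfl
theorem uu11 (s : F) : uu s 1 1 = 1 := rfl

/-- torus -/
def hh (t : Fˣ) : SpecialLinearGroup (Fin 2) F :=
  ⟨!![(t : F), 0; 0, ((t⁻¹ : Fˣ) : F)], by simp [Matrix.det_fin_two]⟩

theorem hh00 (t : Fˣ) : hh t 0 0 = t := rfl
theorem hh01 (t : Fˣ) : hh t 0 1 = 0 := rfl
theorem hh10 (t : Fˣ) : hh t 1 0 = 0 := rfl
theorem hh11 (t : Fˣ) : hh t 1 1 = ((t⁻¹ : Fˣ) : F) := rfl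

/-- the Weyl element (char 2 or not: `(a,b) ↦ (-b, a)`) -/
def ww : SpecialLinearGroup (Fin 2) F := ⟨!![0, 1; -1, 0], by simp [Matrix.det_fin_two]⟩

theorem ww00 : (ww : SpecialLinearGroup (Fin 2) F) 0 0 = 0 := rfl
theorem ww01 : (ww : SpecialLinearGroup (Fin 2) F) 0 1 = 1 := rfl
theorem ww10 : (ww : SpecialLinearGroup (Fin 2) F) 1 0 = -1 := rfl
theorem ww11 : (ww : SpecialLinearGroup (Fin 2) F) 1 1 = 0 := rfl

theorem act_uu (s : F) (v : F × F) : act (uu s) v = (v.1, v.2 + s * v.1) := by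
  unfold act
  rw [uu00, uu01, uu10, uu11]
  ext <;> simp
  ring

theorem act_hh (t : Fˣ) (v : F × F) : act (hh t) v = (t * v.1, ((t⁻¹ : Fˣ) : F) * v.2) := by
  unfold act
  rw [hh00, hh01, hh10, hh11]
  ext <;> simp [mul_comm]

theorem act_ww (v : F × F) : act ww v = (-v.2, v.1) := by
  unfold act
  rw [ww00, ww01, ww10, ww11]
  ext <;> simp

theorem uu_add (s t : F) : uu (s + t) = uu s * uu t := by
  apply ext2 <;> simp only [mul_entry, uu00, uu01, uu10, uu11] <;> ring

theorem uu_zero : uu (0 : F) = 1 := by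
  apply ext2 <;> simp only [uu00, uu01, uu10, uu11, one_entry00, one_entry01, one_entry10,
    one_entry11]

theorem hh_mul (s t : Fˣ) : hh (s * t) = hh s * hh t := by
  apply ext2 <;> simp only [mul_entry, hh00, hh01, hh10, hh11, mul_inv, Units.val_mul] <;> ring

theorem hh_one : hh (1 : Fˣ) = 1 := by
  apply ext2 <;> simp only [hh00, hh01, hh10, hh11, one_entry00, one_entry01, one_entry10,
    one_entry11, inv_one, Units.val_one]

theorem uu_hh (t : Fˣ) (s : F) :
    uu s * hh t = hh t * uu (((t⁻¹ : Fˣ) : F) * s * ((t⁻¹ : Fˣ) : F)) := by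
  have ht : (t : F) * ((t⁻¹ : Fˣ) : F) = 1 := by rw [← Units.val_mul, mul_inv_cancel, Units.val_one]
  apply ext2 <;> simp only [mul_entry, hh00, hh01, hh10, hh11, uu00, uu01, uu10, uu11]
  · ring
  · linear_combination (-s * ((t⁻¹ : Fˣ) : F)) * ht
  · ring
  · ring

/-- every nonzero row is a second row -/
theorem exists_row {v : F × F} (hv : v ≠ (0, 0)) :
    ∃ g : SpecialLinearGroup (Fin 2) F, g 1 0 = v.1 ∧ g 1 1 = v.2 := by
  by_cases h : v.2 ≠ 0
  · exact ⟨⟨!![v.2⁻¹, 0; v.1, v.2], by simp [Matrix.det_fin_two, h]⟩, rfl, rfl⟩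
  · by_cases h' : v.1 ≠ 0
    · have h2 : v.2 = 0 := by simpa using h
      exact ⟨⟨!![0, -v.1⁻¹; v.1, 0], by simp [Matrix.det_fin_two, h']⟩, rfl, h2.symm⟩
    · exfalso
      apply hv
      ext
      · simpa using h'
      · simpa using h

/-- every nonzero row is a first row -/
theorem exists_row' {v : F × F} (hv : v ≠ (0, 0)) :
    ∃ g : SpecialLinearGroup (Fin 2) F, g 0 0 = v.1 ∧ g 0 1 = v.2 := by
  by_cases h : v.1 ≠ 0
  · exact ⟨⟨!![v.1, v.2; 0, v.1⁻¹], by simp [Matrix.det_fin_two, h]⟩, rfl, rfl⟩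
  · by_cases h' : v.2 ≠ 0
    · have h2 : v.1 = 0 := by simpa using h
      exact ⟨⟨!![0, v.2; -v.2⁻¹, 0], by simp [Matrix.det_fin_two, h']⟩, h2.symm, rfl⟩
    · exfalso
      apply hv
      ext
      · simpa using h
      · simpa using h'

/-- every nonzero column is a first column -/
theorem exists_col {v : F × F} (hv : v ≠ (0, 0)) :
    ∃ g : SpecialLinearGroup (Fin 2) F, g 0 0 = v.1 ∧ g 1 0 = v.2 := by
  by_cases h : v.1 ≠ 0
  · exact ⟨⟨!![v.1, 0; v.2, v.1⁻¹], by simp [Matrix.det_fin_two, h]⟩, rfl, rfl⟩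
  · by_cases h' : v.2 ≠ 0
    · have h2 : v.1 = 0 := by simpa using h
      exact ⟨⟨!![0, -v.2⁻¹; v.2, 0], by simp [Matrix.det_fin_two, h']⟩, h2.symm, rfl⟩
    · exfalso
      apply hv
      ext
      · simpa using h
      · simpa using h'

/-- a matrix with given second row -/
noncomputable def gv (v : F × F) : SpecialLinearGroup (Fin 2) F :=
  Classical.epsilon fun g => g 1 0 = v.1 ∧ g 1 1 = v.2

theorem gv_row {v : F × F} (hv : v ≠ (0, 0)) :
    gv v 1 0 = v.1 ∧ gv v 1 1 = v.2 :=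
  Classical.epsilon_spec (p := fun g : SpecialLinearGroup (Fin 2) F => g 1 0 = v.1 ∧ g 1 1 = v.2)
    (exists_row hv)

theorem act_gv {v : F × F} (hv : v ≠ (0, 0)) : act (gv v) (0, 1) = v := by
  obtain ⟨h1, h2⟩ := gv_row hv
  unfold act
  rw [h1, h2]
  ext <;> simp

/-- two matrices with the same second row differ by an upper unipotent matrix -/
theorem eq_uu_mul {g h : SpecialLinearGroup (Fin 2) F} (e : act g (0, 1) = act h (0, 1)) :
    ∃ s, g = uu s * h := by
  refine ⟨g 0 1 * h 0 0 - g 0 0 * h 0 1, ?_⟩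
  have e1 : g 1 0 = h 1 0 := by simpa [act] using congrArg Prod.fst e
  have e2 : g 1 1 = h 1 1 := by simpa [act] using congrArg Prod.snd e
  have dg := det_eq g
  have dh := det_eq h
  rw [e1, e2] at dg
  apply ext2
  · simp only [mul_entry, uu00, uu01, uu10, uu11]
    linear_combination (-(g 0 0) ) * dh + (h 0 0) * dg
  · simp only [mul_entry, uu00, uu01, uu10, uu11]
    linear_combination (-(g 0 1) ) * dh + (h 0 1) * dg
  · simp only [mul_entry, uu00, uu01, uu10, uu11]
    rw [e1]; ring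
  · simp only [mul_entry, uu00, uu01, uu10, uu11]
    rw [e2]; ring

/-- `(x, y) ↦ (s x - y, x)` -/
def gg (s : F) : SpecialLinearGroup (Fin 2) F := ⟨!![s, 1; -1, 0], by simp [Matrix.det_fin_two]⟩

theorem gg00 (s : F) : gg s 0 0 = s := rfl
theorem gg01 (s : F) : gg s 0 1 = 1 := rfl
theorem gg10 (s : F) : gg s 1 0 = -1 := rfl
theorem gg11 (s : F) : gg s 1 1 = 0 := rfl

theorem act_gg (s : F) (v : F × F) : act (gg s) v = (s * v.1 - v.2, v.1) := by
  unfold act
  rw [gg00, gg01, gg10, gg11]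
  ext <;> simp
  ring

theorem act_ne_zero (g : SpecialLinearGroup (Fin 2) F) {v : F × F} (hv : v ≠ (0, 0)) :
    act g v ≠ (0, 0) := by
  intro h
  apply hv
  apply act_injective g
  rw [h, act_zero]

theorem hh_uu (t : Fˣ) (s : F) : hh t * uu s = uu ((t : F) * s * (t : F)) * hh t := by
  have ht : (t : F) * ((t⁻¹ : Fˣ) : F) = 1 := by rw [← Units.val_mul, mul_inv_cancel, Units.val_one]
  apply ext2 <;> simp only [mul_entry, hh00, hh01, hh10, hh11, uu00, uu01, uu10, uu11]
  · ring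
  · linear_combination (-s * (t : F)) * ht
  · ring
  · ring

end act

end Cfsg.Agent.Omega.KM.St
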