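import Cfsg.Agent.Omega.KM.Bridge

/-!
# (KM): `L F I` is irreducible over `F`
-/

set_option autoImplicit false

namespace Cfsg.Agent.Omega.KM

open Matrix Finset

variable {F : Type*} [Field F] [Fintype F] [CharP F 2]

/-- the powers of the linear forms span `L F I` -/
theorem span_linp {m : ℕ} (hm : Fintype.card F = 2 ^ m) {I : Finset ℕ} (hI : I ⊆ Finset.range m) :
    Submodule.span F (Set.range (linp (F := F) (bits I))) = L F I := by
  have h1 := congrArg (Submodule.map (tr (F := F) F).toLinearMap) (St.L_eq_span (E := F) hm hI)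
  unfold St.L at h1
  rw [Submodule.map_span, ← Set.range_comp, Submodule.map_span, ← Set.range_comp] at h1
  unfold L
  exact h1

omit [Fintype F] [CharP F 2] in
/-- the translates of `x^μ` -/
theorem act_mono_self (I : Finset ℕ) (g : SpecialLinearGroup (Fin 2) F) :
    act g (mono I I) = linp (bits I) (g.1 0 0, g.1 1 0) := by
  funext v
  rw [act_apply, mono_self]
  unfold linp
  simp [Matrix.vecMul, dotProduct, Fin.sum_univ_two, mul_comm]

/-- **`L F I` is irreducible.** -/
theorem L_irr {m : ℕ} (hm : Fintype.card F = 2 ^ m) {I : Finset ℕ} (hI : I ⊆ Finset.range m)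
    (N : Submodule F ((Fin 2 → F) → F)) (hN : N ≤ L F I) (hst : ∀ g, ∀ x ∈ N, act g x ∈ N) :
    N = ⊥ ∨ N = L F I := by
  by_cases h0 : N = ⊥
  · exact Or.inl h0
  right
  obtain ⟨f, hf, hf0⟩ := (Submodule.ne_bot_iff N).1 h0
  obtain ⟨w, hw0, hw⟩ := St.exists_fixed (F := F) (D := N)
    (fun d => by
      apply Subtype.ext
      funext v
      exact CharTwo.add_self_eq_zero _)
    (fun s => { toFun := fun d => ⟨act (uu s) d.1, hst _ _ d.2⟩
                map_zero' := Subtype.ext (map_zero _)
                map_add' := fun a b => Subtype.ext (map_add _ _ _) })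
    (fun d => Subtype.ext (by
      change act (uu 0) d.1 = d.1
      have : (uu (0 : F)) = 1 := St.uu_zero
      rw [this, map_one]; rfl))
    (fun s t d => Subtype.ext (by
      change act (uu (s + t)) d.1 = act (uu s) (act (uu t) d.1)
      have : uu (s + t) = uu s * uu t := St.uu_add s t
      rw [this, map_mul]; rfl))
    (d₀ := ⟨f, hf⟩) (fun h => hf0 (congrArg Subtype.val h))
  have hw' : ∀ s, act (uu s) w.1 = w.1 := fun s => congrArg Subtype.val (hw s)
  obtain ⟨c, hc⟩ := fixed_iff hm hI (hN w.2) hw'
  have hc0 : c ≠ 0 := by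
    rintro rfl
    apply hw0
    apply Subtype.ext
    rw [hc, zero_smul]; rfl
  have hmem : (mono I I : (Fin 2 → F) → F) ∈ N := by
    have : (mono I I : (Fin 2 → F) → F) = c⁻¹ • w.1 := by
      rw [hc, smul_smul, inv_mul_cancel₀ hc0, one_smul]
    rw [this]
    exact Submodule.smul_mem _ _ w.2
  apply le_antisymm hN
  rw [← span_linp hm hI, Submodule.span_le]
  rintro _ ⟨a, rfl⟩
  by_cases ha : a = (0, 0)
  · by_cases hI0 : I = ∅
    · subst hI0
      have : linp (F := F) (bits ∅) a = mono ∅ ∅ := by
        funext v
        simp [linp, mono_apply]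
      rw [this]
      exact hmem
    · have hb : bits I ≠ 0 := by
        have := St.ex_pos (Finset.nonempty_iff_ne_empty.2 hI0)
        rw [ex_eq] at this
        omega
      have : linp (F := F) (bits I) a = 0 := by
        funext v
        unfold linp
        rw [ha]
        simp only [zero_mul, add_zero]
        exact zero_pow hb
      rw [this]
      exact Submodule.zero_mem _
  · obtain ⟨g, h0, h1⟩ := St.exists_col ha
    have := hst g _ hmem
    rw [act_mono_self] at this
    have h2 : (g.1 0 0, g.1 1 0) = a := Prod.ext h0 h1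
    rwa [h2] at this

end Cfsg.Agent.Omega.KM
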