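import Cfsg.Agent.Omega.KM.Final
import Cfsg.Agent.Omega.KM.Bridge

/-!
# K-fact (KM), unconditional

`km` : an irreducible nontrivial `F_2 SL(2,F)`-module `V` of order at most `|F|^4`, `|F| = 2^m`, additively written;
`km_mul` : the same for an elementary abelian 2-group on which a group `G` with `G ≃* SL(2,F)` acts.
-/

set_option autoImplicit false

namespace Cfsg.Agent.Omega.KM

open Matrix Finset

universe u v w

variable {F : Type u} [Field F] {V : Type v} [AddCommGroup V]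

/-- **(KM)**, see `list`. -/
theorem km [Fintype F] [Finite V] [CharP F 2] {m : ℕ} (hF : Fintype.card F = 2 ^ m) (h2 : ∀ x : V, x + x = 0)
    {ρ : SpecialLinearGroup (Fin 2) F →* AddMonoid.End V} (hρ : IsIrr ρ) (hnt : ∃ g x, ρ g x ≠ x)
    (hc : Nat.card V ≤ Fintype.card F ^ 4) :
    (∃ n d : ℕ, n < 4 ∧ 0 < d ∧ m = d * (n + 1) ∧ Nat.card V = 2 ^ (d * 2 ^ (n + 1)) ∧
      ∃ ψ : V ≃+ TM F (finRotate (n + 1)) d, ∀ g x,
        ((ψ (ρ g x) : TM F (finRotate (n + 1)) d) : (Fin (n + 1) → Fin 2) → F) = tact (fun a => d * a) g (ψ x)) ∨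
    (∃ j : ℕ, 0 < j ∧ j < m ∧ Nat.card V = Fintype.card F ^ 4 ∧
      ∃ ψ : V ≃+ ((Fin 2 → Fin 2) → F), ∀ g x, ψ (ρ g x) = tact ![0, j] g (ψ x)) := by
  have hSt : Stein.{u, max u v} F m := by
    intro M _ _ _ _ ρ' hirr
    exact stein hF ρ' hirr
  exact list hF hSt h2 hρ hnt hc

end Cfsg.Agent.Omega.KM
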