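import Cfsg.Agent.Omega.KM.Desc

/-!
# K-fact (KM), the list: `|V| < |F|^4`

`Form.digits` : `|D| = 2^d`, `d ∣ m`, `I` is invariant under `i ↦ (i + d) mod m`, `|W| = 2^(d 2^|I|)`;
`list` : an irreducible nontrivial `F_2 SL(2,2^m)`-module of order less than `|F|^4` is natural (`|I| = 1`, `D = F`),
orthogonal `O4^-` (`|I| = 2`, `m = 2 d`) or triple (`|I| = 3`, `m = 3 d`).
-/

set_option autoImplicit false

namespace Cfsg.Agent.Omega.KM

open Matrix Finset TensorProduct

universe u v w

variable {F : Type u} [Field F]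

theorem pow_two_pow_add [Fintype F] {m : ℕ} (hF : Fintype.card F = 2 ^ m) (t : F) (a k : ℕ) :
    t ^ 2 ^ (a + m * k) = t ^ 2 ^ a := by
  induction k with
  | zero => simp
  | succ k ih =>
    rw [show a + m * (k + 1) = a + m * k + m by ring, pow_add (2 : ℕ), pow_mul, ih, ← hF, ← pow_mul, mul_comm,
      pow_mul, FiniteField.pow_card]

theorem pow_two_pow_mod [Fintype F] {m : ℕ} (hF : Fintype.card F = 2 ^ m) (t : F) (a : ℕ) :
    t ^ 2 ^ a = t ^ 2 ^ (a % m) := by
  conv_lhs => rw [← Nat.mod_add_div a m]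
  exact pow_two_pow_add hF t _ _

/-- power functions with small exponents are different -/
theorem exp_eq [Fintype F] {k l : ℕ} (hk : k < Fintype.card F) (hl : l < Fintype.card F)
    (h : ∀ t : F, t ^ k = t ^ l) : k = l := by
  classical
  by_contra hne
  have := coeff_zero ({k, l} : Finset ℕ) (by
    intro j hj
    rcases Finset.mem_insert.1 hj with rfl | hj
    · exact hk
    · rw [Finset.mem_singleton.1 hj]; exact hl) (fun j => if j = k then (1 : F) else -1) (fun x => by
      rw [Finset.sum_pair hne, if_pos rfl, if_neg (Ne.symm hne), h x]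
      ring) k (by simp)
  simp at this

/-- rotation of digits -/
def rot (m d : ℕ) (i : ℕ) : ℕ := (i + d) % m

theorem rot_injOn {m d : ℕ} {I : Finset ℕ} (hI : I ⊆ range m) : Set.InjOn (rot m d) I := by
  intro i hi j hj hij
  have hi' := Finset.mem_range.1 (hI hi)
  have hj' := Finset.mem_range.1 (hI hj)
  have h1 : i + d ≡ j + d [MOD m] := hij
  have h2 := Nat.ModEq.add_right_cancel' d h1
  rw [Nat.ModEq, Nat.mod_eq_of_lt hi', Nat.mod_eq_of_lt hj'] at h2
  exact h2

theorem pow_bits_rot [Fintype F] {m d : ℕ} (hF : Fintype.card F = 2 ^ m) {I : Finset ℕ} (hI : I ⊆ range m) (t : F) :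
    (t ^ bits I) ^ 2 ^ d = t ^ bits (I.image (rot m d)) := by
  rw [pow_bits, pow_bits, Finset.prod_image (rot_injOn hI), ← Finset.prod_pow]
  refine Finset.prod_congr rfl fun i _ => ?_
  rw [← pow_mul, ← pow_add, pow_two_pow_mod hF]
  rfl

theorem rot_mem [Fintype F] {m d : ℕ} (hF : Fintype.card F = 2 ^ m) (hm : 0 < m) {I : Finset ℕ} (hI : I ⊆ range m)
    (h : ∀ t : F, (t ^ bits I) ^ 2 ^ d = t ^ bits I) {i : ℕ} (hi : i ∈ I) : (i + d) % m ∈ I := by
  have h1 : I.image (rot m d) ⊆ range m := by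
    intro j hj
    obtain ⟨k, _, rfl⟩ := Finset.mem_image.1 hj
    exact Finset.mem_range.2 (Nat.mod_lt _ hm)
  have h2 : bits (I.image (rot m d)) = bits I := by
    refine exp_eq (F := F) ?_ ?_ fun t => ?_
    · rw [hF]; exact bits_lt h1
    · rw [hF]; exact bits_lt hI
    · rw [← pow_bits_rot hF hI, h t]
  have h3 := bits_injective h2
  have h4 : rot m d i ∈ I.image (rot m d) := Finset.mem_image_of_mem _ hi
  rw [h3] at h4
  exact h4

namespace Form

variable [Fintype F] {m : ℕ} {I : Finset ℕ} {W : AddSubgroup ((Fin 2 → F) → F)} (h : Form F I W)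

include h in
/-- the degree of `D` and the rotation -/
theorem digits (hF : Fintype.card F = 2 ^ m) (hI : I ⊆ range m) :
    ∃ d : ℕ, 0 < d ∧ d ∣ m ∧ Nat.card h.D = 2 ^ d ∧ (∀ i ∈ I, (i + d) % m ∈ I) ∧ Nat.card W = 2 ^ (d * 2 ^ I.card) ∧
      ∀ x : F, x ∈ h.D ↔ x ^ 2 ^ d = x := by
  classical
  have hm : 0 < m := by
    rcases Nat.eq_zero_or_pos m with rfl | hm
    · have := Fintype.one_lt_card (α := F)
      rw [hF] at this
      simp at this
    · exact hm
  have : Fintype h.D := Fintype.ofFinite _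
  have hc : Fintype.card F = Fintype.card h.D ^ Module.finrank h.D F := Module.card_eq_pow_finrank
  have hn : 0 < Module.finrank h.D F := Module.finrank_pos
  have hdvd : Fintype.card h.D ∣ 2 ^ m := by
    rw [← hF, hc]
    exact dvd_pow_self _ hn.ne'
  obtain ⟨d, _, hd⟩ := (Nat.dvd_prime_pow Nat.prime_two).1 hdvd
  have hd0 : 0 < d := by
    rcases Nat.eq_zero_or_pos d with rfl | hd0
    · have := Fintype.one_lt_card (α := h.D)
      rw [hd] at this
      simp at this
    · exact hd0
  have hdm : d ∣ m := by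
    rw [hd, ← pow_mul, hF] at hc
    exact ⟨_, Nat.pow_right_injective le_rfl hc⟩
  have hDcard : Nat.card h.D = 2 ^ d := by rw [Nat.card_eq_fintype_card, hd]
  have hpow : ∀ x ∈ h.D, x ^ 2 ^ d = x := by
    intro x hx
    have := FiniteField.pow_card (⟨x, hx⟩ : h.D)
    rw [hd] at this
    exact congrArg Subtype.val this
  refine ⟨d, hd0, hdm, hDcard, fun i hi => rot_mem hF hm hI (fun t => hpow _ (h.pow_mem t)) hi, ?_, fun x =>
    ⟨hpow x, fun hx => ?_⟩⟩
  · rw [h.card_eq hF hI, hDcard, ← pow_mul]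
  · -- the roots of `X^(2^d) - X`
    by_contra hne
    let p : Polynomial F := Polynomial.X ^ 2 ^ d - Polynomial.X
    have h1d : 1 < 2 ^ d := Nat.one_lt_two_pow hd0.ne'
    have hp : p ≠ 0 := FiniteField.X_pow_card_sub_X_ne_zero F h1d
    have hdeg : p.natDegree = 2 ^ d := FiniteField.X_pow_card_sub_X_natDegree_eq F h1d
    have hsub : insert x (Finset.univ.image (Subtype.val : h.D → F)) ⊆ p.roots.toFinset := by
      intro y hy
      rw [Multiset.mem_toFinset, Polynomial.mem_roots hp]
      have : y ^ 2 ^ d = y := by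
        rcases Finset.mem_insert.1 hy with rfl | hy
        · exact hx
        · obtain ⟨z, _, rfl⟩ := Finset.mem_image.1 hy
          exact hpow _ z.2
      simp [p, Polynomial.IsRoot, this]
    have h3 := Finset.card_le_card hsub
    rw [Finset.card_insert_of_notMem (by
      intro hy
      obtain ⟨z, _, rfl⟩ := Finset.mem_image.1 hy
      exact hne z.2), Finset.card_image_of_injective _ Subtype.val_injective, Finset.card_univ, hd] at h3
    have h4 := (Multiset.toFinset_card_le p.roots).trans (Polynomial.card_roots' p)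
    omega

end Form

/-- iterated rotation -/
theorem rot_iter {m d : ℕ} {I : Finset ℕ} (h : ∀ i ∈ I, (i + d) % m ∈ I) (hI : I ⊆ range m) {i : ℕ} (hi : i ∈ I)
    (k : ℕ) : (i + d * k) % m ∈ I := by
  induction k with
  | zero =>
    have := Finset.mem_range.1 (hI hi)
    rw [mul_zero, add_zero, Nat.mod_eq_of_lt this]
    exact hi
  | succ k ih =>
    have := h _ ih
    rwa [Nat.mod_add_mod, add_assoc, ← Nat.mul_succ] at this

/-- the orbit of a digit -/
theorem orbit_subset {m d a : ℕ} (hm : m = d * a) (hd : 0 < d) {I : Finset ℕ} (h : ∀ i ∈ I, (i + d) % m ∈ I)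
    (hI : I ⊆ range m) {i : ℕ} (hi : i ∈ I) :
    (range a).image (fun k => (i + d * k) % m) ⊆ I ∧ ((range a).image (fun k => (i + d * k) % m)).card = a := by
  classical
  constructor
  · intro j hj
    obtain ⟨k, _, rfl⟩ := Finset.mem_image.1 hj
    exact rot_iter h hI hi k
  · rw [Finset.card_image_of_injOn, Finset.card_range]
    intro k hk l hl hkl
    have h1 : i + d * k ≡ i + d * l [MOD m] := hkl
    have h2 := Nat.ModEq.add_left_cancel' i h1
    rw [hm] at h2
    have h3 := Nat.ModEq.mul_left_cancel' hd.ne' h2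
    rw [Nat.ModEq, Nat.mod_eq_of_lt (Finset.mem_range.1 hk), Nat.mod_eq_of_lt (Finset.mem_range.1 hl)] at h3
    exact h3

/-- the numerical end: `2^(d 2^|I|) < (2^m)^4` -/
theorem small {m d : ℕ} (hdm : d ∣ m) (hd : 0 < d) (hm0 : 0 < m) {I : Finset ℕ} (hne : I.Nonempty)
    (h : ∀ i ∈ I, (i + d) % m ∈ I) (hI : I ⊆ range m) (hc : d * 2 ^ I.card < 4 * m) :
    (I.card = 1 ∧ m = d ∧ ∃ i, I = {i}) ∨ (I.card = 2 ∧ m = d * 2 ∧ ∃ i, I = {i, (i + d) % m}) ∨
      (I.card = 3 ∧ m = d * 3 ∧ ∃ i, I = {i, (i + d) % m, (i + d * 2) % m}) := by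
  classical
  obtain ⟨a, ha⟩ := hdm
  obtain ⟨i, hi⟩ := hne
  obtain ⟨h1, h2⟩ := orbit_subset ha hd h hI hi
  have h3 := Finset.card_le_card h1
  rw [h2] at h3
  have h4 : 2 ^ I.card < 4 * a := by
    rw [ha] at hc
    have : d * 2 ^ I.card < d * (4 * a) := by rw [show d * (4 * a) = 4 * (d * a) by ring]; exact hc
    exact lt_of_mul_lt_mul_left this (Nat.zero_le _)
  have h5 : I.card < 4 := by
    by_contra h6
    have h7 : ∀ n : ℕ, 4 ≤ n → 4 * n ≤ 2 ^ n := by
      intro n hn
      induction n, hn using Nat.le_induction with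
      | base => norm_num
      | succ n hn ih => rw [pow_succ]; omega
    have := h7 I.card (not_lt.1 h6)
    omega
  have h8 : 0 < I.card := Finset.card_pos.2 ⟨i, hi⟩
  have ha0 : 0 < a := by
    rcases Nat.eq_zero_or_pos a with rfl | ha0
    · simp at ha; omega
    · exact ha0
  have key : a = I.card := by
    interval_cases hc' : I.card <;> omega
  have h9 : (range a).image (fun k => (i + d * k) % m) = I :=
    Finset.eq_of_subset_of_card_le h1 (by rw [h2, key])
  have him : i % m = i := Nat.mod_eq_of_lt (Finset.mem_range.1 (hI hi))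
  have hcard : I.card = 1 ∨ I.card = 2 ∨ I.card = 3 := by omega
  rcases hcard with hk | hk | hk
  · left
    refine ⟨hk, by rw [ha, key, hk, mul_one], i, ?_⟩
    rw [← h9, key, hk]
    simp [him]
  · right; left
    refine ⟨hk, by rw [ha, key, hk], i, ?_⟩
    rw [← h9, key, hk]
    ext x
    simp [Finset.mem_image, Finset.mem_range, him, Finset.range_add_one]
    tauto
  · right; right
    refine ⟨hk, by rw [ha, key, hk], i, ?_⟩
    rw [← h9, key, hk]
    ext x
    simp [Finset.mem_image, Finset.mem_range, him, Finset.range_add_one]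
    tauto

end Cfsg.Agent.Omega.KM
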