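import Cfsg.Agent.Omega.KM.Embed

/-!
# Irreducible modules of `SL₂(F)`, `|F| = 2^m` (K-fact (KM)): the main theorem

`main`: let `F` be a finite field of characteristic 2, `E` a field with `F → E`, `K → E`
(`K` any subfield, e.g. `ZMod 2`, or `K = E`), `V ≠ 0` an irreducible `K`-representation of
`SL₂(F)`.  Then `V` is trivial, or there is `μ ∈ [1, |F| - 1]` and an injective equivariant map
`Ψ : V → (F² → E)` with image `L K E μ = ` the `K`-span of the functions
`(x, y) ↦ (a x + b y)^μ`, `a, b ∈ F`.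
-/

set_option autoImplicit false

namespace Cfsg.Agent.Omega.KM.St

open Matrix Finset

variable {F : Type*} [Field F]

/-- the `μ`-th power of a linear form -/
def lin (E : Type*) [Field E] [Algebra F E] (μ : ℕ) (a : F × F) : F × F → E :=
  fun p => (algebraMap F E (a.1 * p.1 + a.2 * p.2)) ^ μ

/-- the span of the `μ`-th powers of the linear forms -/
def L (F K E : Type*) [Field F] [Field K] [Field E] [Algebra F E] [Algebra K E] (μ : ℕ) :
    Submodule K (F × F → E) :=
  Submodule.span K (Set.range (lin (F := F) E μ))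

section

variable [Fintype F] [CharP F 2] {E : Type*} [Field E] [Algebra F E] {K : Type*} [Field K]
  [Algebra K E] {V : Type*} [AddCommGroup V] [Module K V]
  (ρ : SpecialLinearGroup (Fin 2) F →* (V →ₗ[K] V))

omit [Fintype F] [CharP F 2] in
/-- if `c x^μ` is in the image then the image is `c L μ` -/
theorem range_eq {μ : ℕ} (hμ : 1 ≤ μ) (Φ : V →ₗ[K] (F × F → E))
    (hΦ : ∀ g v p, Φ (ρ g v) p = Φ v (act g p))
    (hirr : ∀ W : Submodule K V, (∀ g, ∀ w ∈ W, ρ g w ∈ W) → W = ⊥ ∨ W = ⊤)
    {v : V} {c : E} (hc : c ≠ 0) (hv : ∀ p, Φ v p = c * (algebraMap F E p.1) ^ μ) :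
    ∃ Ψ : V →ₗ[K] (F × F → E), (∀ w, Ψ w = c⁻¹ • Φ w) ∧ LinearMap.range Ψ = L F K E μ := by
  let Ψ : V →ₗ[K] (F × F → E) :=
    { toFun := fun w => c⁻¹ • Φ w
      map_add' := fun a b => by rw [map_add, smul_add]
      map_smul' := fun k a => by
        rw [map_smul, smul_comm]; rfl }
  refine ⟨Ψ, fun w => rfl, ?_⟩
  have hΨ : ∀ g w p, Ψ (ρ g w) p = Ψ w (act g p) := by
    intro g w p
    change c⁻¹ • Φ (ρ g w) p = c⁻¹ • Φ w (act g p)
    rw [hΦ]
  have hv' : ∀ p, Ψ v p = (algebraMap F E p.1) ^ μ := by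
    intro p
    change c⁻¹ • Φ v p = _
    rw [hv, smul_eq_mul, inv_mul_cancel_left₀ hc]
  let W : Submodule K V := Submodule.span K (Set.range fun g => ρ g v)
  have hW : W = ⊤ := by
    refine (hirr W ?_).resolve_left ?_
    · intro g w hw
      induction hw using Submodule.span_induction with
      | mem x hx =>
        obtain ⟨h, rfl⟩ := hx
        rw [← rho_mul]
        exact Submodule.subset_span ⟨g * h, rfl⟩
      | zero => rw [map_zero]; exact Submodule.zero_mem _
      | add x y _ _ hx hy => rw [map_add]; exact Submodule.add_mem _ hx hy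
      | smul k x _ hx => rw [map_smul]; exact Submodule.smul_mem _ _ hx
    · intro h
      have h1 : v ∈ W := Submodule.subset_span ⟨1, rho_one ρ v⟩
      rw [h, Submodule.mem_bot] at h1
      have h2 := hv' (1, 0)
      rw [h1, map_zero, map_one, one_pow] at h2
      exact zero_ne_one h2
  rw [LinearMap.range_eq_map, ← hW, LinearMap.map_span]
  unfold L
  apply le_antisymm
  · rw [Submodule.span_le]
    rintro _ ⟨_, ⟨g, rfl⟩, rfl⟩
    apply Submodule.subset_span
    refine ⟨(g 0 0, g 1 0), ?_⟩
    ext p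
    change (algebraMap F E (g 0 0 * p.1 + g 1 0 * p.2)) ^ μ = Ψ (ρ g v) p
    rw [hΨ, hv']
    unfold act
    rw [mul_comm p.1, mul_comm p.2]
  · rw [Submodule.span_le]
    rintro _ ⟨a, rfl⟩
    by_cases ha : a = (0, 0)
    · have : lin E μ a = 0 := by
        ext p
        unfold lin
        rw [ha]
        simp only [zero_mul, add_zero, map_zero]
        exact zero_pow (by omega)
      rw [this]
      exact Submodule.zero_mem _
    · obtain ⟨g, h0, h1⟩ := exists_col ha
      apply Submodule.subset_span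
      refine ⟨ρ g v, ⟨g, rfl⟩, ?_⟩
      ext p
      rw [hΨ, hv']
      unfold act lin
      rw [h0, h1, mul_comm p.1, mul_comm p.2]

/-- `∑_{u ∈ F} u^μ`, `1 ≤ μ ≤ q - 1` -/
theorem sum_pow_eq [DecidableEq F] {μ : ℕ} (h1 : 1 ≤ μ) (h2 : μ ≤ Fintype.card F - 1) :
    ∑ u : F, u ^ μ = if μ = Fintype.card F - 1 then 1 else 0 := by
  split_ifs with h
  · subst h
    have : ∀ u : F, u ^ (Fintype.card F - 1) = if u = 0 then 0 else 1 := by
      intro u
      split_ifs with hu
      · rw [hu]
        exact zero_pow (by omega)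
      · exact FiniteField.pow_card_sub_one_eq_one u hu
    simp only [this]
    have h3 : ∑ u : F, (if u = 0 then (0 : F) else 1) = ∑ u : F, (1 - if u = 0 then (1 : F) else 0) := by
      refine Finset.sum_congr rfl fun u _ => ?_
      split_ifs <;> simp
    rw [h3, Finset.sum_sub_distrib]
    simp only [Finset.sum_const, Finset.card_univ, nsmul_eq_mul, mul_one,
      FiniteField.cast_card_eq_zero, Finset.sum_ite_eq', Finset.mem_univ, if_true, zero_sub]
    exact CharTwo.neg_eq 1
  · exact FiniteField.sum_pow_lt_card_sub_one F μ (by omega)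

/-- **Theorem (KM), general form.** -/
theorem main [Nontrivial V]
    (hirr : ∀ W : Submodule K V, (∀ g, ∀ w ∈ W, ρ g w ∈ W) → W = ⊥ ∨ W = ⊤) :
    (∀ g v, ρ g v = v) ∨ ∃ μ, 1 ≤ μ ∧ μ ≤ Fintype.card F - 1 ∧
      ∃ Ψ : V →ₗ[K] (F × F → E), Function.Injective Ψ ∧
        (∀ g v p, Ψ (ρ g v) p = Ψ v (act g p)) ∧ LinearMap.range Ψ = L F K E μ := by
  classical
  obtain ⟨μ, hμ1, hμ2, φ, hφ0, hφU, hφT⟩ := exists_functional (E := E) ρ
  have hΦe := Phi_equivariant ρ φ hφU
  have hΦh := Phi_homogeneous ρ φ hφU hφT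
  have hΦi := Phi_injective ρ φ hφU hφ0 hirr
  set Φ := Phi ρ φ with hΦ
  -- the good case
  have good : (∃ v c, c ≠ 0 ∧ ∀ p, Φ v p = c * (algebraMap F E p.1) ^ μ) →
      ∃ μ, 1 ≤ μ ∧ μ ≤ Fintype.card F - 1 ∧
      ∃ Ψ : V →ₗ[K] (F × F → E), Function.Injective Ψ ∧
        (∀ g v p, Ψ (ρ g v) p = Ψ v (act g p)) ∧ LinearMap.range Ψ = L F K E μ := by
    rintro ⟨v, c, hc, hv⟩
    obtain ⟨Ψ, h1, h2⟩ := range_eq ρ hμ1 Φ hΦe hirr hc hv
    refine ⟨μ, hμ1, hμ2, Ψ, ?_, ?_, h2⟩
    · intro a b hab
      rw [h1, h1] at hab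
      exact hΦi (smul_right_injective _ (inv_ne_zero hc) hab)
    · intro g v p
      rw [h1, h1]
      change c⁻¹ • Φ (ρ g v) p = c⁻¹ • Φ v (act g p)
      rw [hΦe]
  -- a fixed vector
  have h2V : ∀ v : V, v + v = 0 := by
    intro v
    apply hΦi
    rw [map_add, map_zero]
    ext p
    exact two_E F _
  obtain ⟨w₀, hw₀⟩ := exists_ne (0 : V)
  obtain ⟨v₀, hv₀, hfix⟩ := exists_fixed (F := F) (D := V) h2V
    (fun s => (ρ (uu s)).toAddMonoidHom)
    (fun d => by
      change ρ (uu 0) d = d
      rw [uu_zero, rho_one])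
    (fun s t d => by
      change ρ (uu (s + t)) d = ρ (uu s) (ρ (uu t) d)
      rw [uu_add, rho_mul]) hw₀
  have hfix' : ∀ s, ρ (uu s) v₀ = v₀ := hfix
  have hf0 : Φ v₀ (0, 0) = 0 := Phi_zero ρ φ v₀
  have hfU : ∀ s p, Φ v₀ (act (uu s) p) = Φ v₀ p := by
    intro s p
    rw [← hΦe, hfix']
  have hf1 : ∀ x y : F, x ≠ 0 → Φ v₀ (x, y) = Φ v₀ (1, 0) * (algebraMap F E x) ^ μ := by
    intro x y hx
    have h1 := hfU (-(y * x⁻¹)) (x, y)
    rw [act_uu] at h1
    simp only [neg_mul, mul_assoc, inv_mul_cancel₀ hx, mul_one, add_neg_cancel] at h1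
    rw [← h1]
    have h2 := hΦh v₀ (Units.mk0 x hx) (1, 0)
    simp only [Units.val_mk0, mul_one, mul_zero] at h2
    rw [h2, mul_comm]
  have hf2 : ∀ y : F, Φ v₀ (0, y) = Φ v₀ (0, 1) * (algebraMap F E y) ^ μ := by
    intro y
    by_cases hy : y = 0
    · rw [hy, hf0, map_zero, zero_pow (by omega), mul_zero]
    · have h2 := hΦh v₀ (Units.mk0 y hy) (0, 1)
      simp only [Units.val_mk0, mul_one, mul_zero] at h2
      rw [h2, mul_comm]
  set α := Φ v₀ (1, 0) with hα
  set β := Φ v₀ (0, 1) with hβ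
  -- the sum
  have hsumx : ∀ x : F, x ≠ 0 → ∑ u : F, Φ v₀ (u, x) =
      (β + α * algebraMap F E (∑ u : F, u ^ μ)) * (algebraMap F E x) ^ μ := by
    intro x hx
    have h1 : ∀ u : F, Φ v₀ (u, x) = (if u = 0 then β * (algebraMap F E x) ^ μ else 0) +
        α * algebraMap F E (u ^ μ) := by
      intro u
      split_ifs with hu
      · rw [hu, hf2, zero_pow (by omega), map_zero, mul_zero, add_zero]
      · rw [hf1 u x hu, map_pow, zero_add]
    rw [Finset.sum_congr rfl fun u _ => h1 u, Finset.sum_add_distrib, Finset.sum_ite_eq',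
      if_pos (Finset.mem_univ _), ← Finset.mul_sum, ← map_sum, add_mul, sum_pow_eq hμ1 hμ2]
    split_ifs with h
    · rw [h, ← map_pow, FiniteField.pow_card_sub_one_eq_one x hx]
      simp
    · simp
  have hv₁ : ∀ p : F × F, Φ (∑ s : F, ρ (gg s) v₀) p =
      (β + α * algebraMap F E (∑ u : F, u ^ μ)) * (algebraMap F E p.1) ^ μ := by
    rintro ⟨x, y⟩
    rw [map_sum, Finset.sum_apply]
    simp only [hΦe, act_gg]
    by_cases hx : x = 0
    · subst hx
      simp only [mul_zero, zero_sub, Finset.sum_const, Finset.card_univ, map_zero]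
      rw [zero_pow (by omega : μ ≠ 0), mul_zero, nsmul_eq_mul]
      have : ((Fintype.card F : ℕ) : E) = algebraMap F E ((Fintype.card F : ℕ) : F) := by
        rw [map_natCast]
      rw [this, FiniteField.cast_card_eq_zero, map_zero, zero_mul]
    · rw [← hsumx x hx]
      exact Fintype.sum_bijective (fun s => s * x - y)
        ⟨fun a b h => by
          have h : a * x - y = b * x - y := h
          have : a * x = b * x := by linear_combination h
          exact mul_right_cancel₀ hx this,
        fun u => ⟨(u + y) * x⁻¹, by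
          change (u + y) * x⁻¹ * x - y = u
          rw [mul_assoc, inv_mul_cancel₀ hx]; ring⟩⟩ _ _ (fun s => rfl)
  by_cases hc : β + α * algebraMap F E (∑ u : F, u ^ μ) = 0
  · by_cases hμ : μ = Fintype.card F - 1
    · left
      rw [sum_pow_eq hμ1 hμ2, if_pos hμ, map_one, mul_one] at hc
      have hab : β = α := by
        have h1 := two_E F α
        have h2 : β + α = α + α := hc.trans h1.symm
        exact add_right_cancel h2
      have hval : ∀ p, Φ v₀ p = if p = (0, 0) then 0 else α := by
        rintro ⟨x, y⟩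
        split_ifs with hp
        · rw [hp, hf0]
        · by_cases hx : x = 0
          · subst hx
            have hy : y ≠ 0 := by
              rintro rfl
              exact hp rfl
            rw [hf2, hμ, ← map_pow, FiniteField.pow_card_sub_one_eq_one y hy, map_one, mul_one, hab]
          · rw [hf1 x y hx, hμ, ← map_pow, FiniteField.pow_card_sub_one_eq_one x hx, map_one,
              mul_one]
      have htriv : ∀ g, ρ g v₀ = v₀ := by
        intro g
        apply hΦi
        ext p
        rw [hΦe, hval, hval]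
        by_cases hp : p = (0, 0)
        · rw [if_pos hp, hp, act_zero, if_pos rfl]
        · rw [if_neg hp, if_neg (act_ne_zero g hp)]
      have hspan : Submodule.span K {v₀} = ⊤ := by
        refine (hirr _ ?_).resolve_left ?_
        · intro g w hw
          obtain ⟨c, rfl⟩ := Submodule.mem_span_singleton.1 hw
          rw [map_smul, htriv]
          exact hw
        · intro h
          apply hv₀
          have : v₀ ∈ Submodule.span K {v₀} := Submodule.mem_span_singleton_self v₀
          rwa [h, Submodule.mem_bot] at this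
      intro g v
      have hv : v ∈ Submodule.span K {v₀} := by rw [hspan]; exact Submodule.mem_top
      obtain ⟨c, rfl⟩ := Submodule.mem_span_singleton.1 hv
      rw [map_smul, htriv]
    · right
      apply good
      rw [sum_pow_eq hμ1 hμ2, if_neg hμ, map_zero, mul_zero, add_zero] at hc
      refine ⟨v₀, α, ?_, ?_⟩
      · intro h0
        apply hv₀
        apply hΦi
        rw [map_zero]
        ext ⟨x, y⟩
        by_cases hx : x = 0
        · rw [hx, hf2, hc, zero_mul]; rfl
        · rw [hf1 x y hx, h0, zero_mul]; rfl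
      · rintro ⟨x, y⟩
        by_cases hx : x = 0
        · rw [hx, hf2, hc, zero_mul]
          simp only [map_zero]
          rw [zero_pow (by omega), mul_zero]
        · exact hf1 x y hx
  · right
    exact good ⟨_, _, hc, hv₁⟩

end

end Cfsg.Agent.Omega.KM.St
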