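import Cfsg.Agent.Omega.KM.List

/-!
# K-fact (KM): forms from modules, and the tensor model

* `exists_form` : an irreducible `F_2 SL(2,F)`-module is a `Form F I W`;
* `tf e t` : the function `v ↦ Σ_ε t ε ∏_a v (ε a) ^ 2^(e a)` of a tensor `t : (Fin k → Fin 2) → F`;
* `Form.model` : `W` is the space of all `tf e t`, `t ε = (t (ε ∘ s)) ^ 2^d`, if `e (s a) = e a + d mod m`.
-/

set_option autoImplicit false

namespace Cfsg.Agent.Omega.KM

open Matrix Finset TensorProduct

universe u v w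

variable {F : Type u} [Field F] {V : Type v} [AddCommGroup V]

/-- an irreducible `F_2 SL(2,F)`-module is a form -/
theorem exists_form [Fintype F] [Finite V] [CharP F 2] {m : ℕ} (hF : Fintype.card F = 2 ^ m)
    (hSt : Stein.{u, max u v} F m) (h2 : ∀ x : V, x + x = 0)
    {ρ : SpecialLinearGroup (Fin 2) F →* AddMonoid.End V} (hρ : IsIrr ρ) :
    ∃ I ⊆ range m, ∃ W : AddSubgroup ((Fin 2 → F) → F), Form F I W ∧
      ∃ e : V ≃+ W, ∀ g x, ((e (ρ g x) : W) : (Fin 2 → F) → F) = act g (e x) := by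
  classical
  have : Nontrivial V := hρ.nontriv
  obtain ⟨I, hI, i, hi, hL, heq, hirrF⟩ := exists_embed hSt h2 hρ
  obtain ⟨x0, hx0, hfix⟩ := exists_fixed hF h2 ρ
  obtain ⟨c, hc⟩ := fixed_iff hF hI (hL x0) fun b => by rw [← heq, hfix]
  have hc0 : c ≠ 0 := by
    rintro rfl
    rw [zero_smul] at hc
    exact hx0 (hi (by rw [hc, map_zero]))
  let j : V →+ ((Fin 2 → F) → F) :=
    { toFun := fun x => c⁻¹ • i x
      map_zero' := by rw [map_zero, smul_zero]
      map_add' := fun x y => by rw [map_add, smul_add] }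
  have hj : Function.Injective j := by
    intro x y hxy
    have h1 : c⁻¹ • i x = c⁻¹ • i y := hxy
    exact hi (smul_right_injective _ (inv_ne_zero hc0) h1)
  have hjeq : ∀ g x, j (ρ g x) = act g (j x) := fun g x => by
    change c⁻¹ • i (ρ g x) = act g (c⁻¹ • i x)
    rw [heq, map_smul]
  refine ⟨I, hI, j.range, ⟨?_, ?_, ?_, ?_, hirrF⟩, AddMonoidHom.ofInjective hj, fun g x => hjeq g x⟩
  · rintro _ ⟨x, rfl⟩
    exact (L F I).smul_mem _ (hL x)
  · rintro g _ ⟨x, rfl⟩
    exact ⟨ρ g x, hjeq g x⟩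
  · refine ⟨x0, ?_⟩
    change c⁻¹ • i x0 = _
    rw [hc, smul_smul, inv_mul_cancel₀ hc0, one_smul]
  · intro W' hW' hst
    rcases hρ.irr (W'.comap j) (fun g x hx => by
      rw [AddSubgroup.mem_comap] at *
      rw [hjeq]
      exact hst g _ hx) with h | h
    · left
      rw [AddSubgroup.eq_bot_iff_forall]
      intro f hf
      obtain ⟨x, rfl⟩ := hW' hf
      have hx : x ∈ W'.comap j := hf
      rw [h, AddSubgroup.mem_bot] at hx
      rw [hx, map_zero]
    · right
      refine le_antisymm hW' ?_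
      rintro _ ⟨x, rfl⟩
      have hx : x ∈ W'.comap j := by rw [h]; trivial
      exact hx

/-! ### the tensor model -/

variable {k : ℕ}

/-- the function of a tensor -/
def tf (e : Fin k → ℕ) : ((Fin k → Fin 2) → F) →ₗ[F] ((Fin 2 → F) → F) where
  toFun t v := ∑ ε, t ε * ∏ a, v (ε a) ^ 2 ^ e a
  map_add' s t := by
    funext v
    simp [add_mul, Finset.sum_add_distrib]
  map_smul' c t := by
    funext v
    simp [mul_assoc, Finset.mul_sum]

theorem tf_apply (e : Fin k → ℕ) (t : (Fin k → Fin 2) → F) (v : Fin 2 → F) :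
    tf e t v = ∑ ε, t ε * ∏ a, v (ε a) ^ 2 ^ e a := rfl

/-- the action on tensors -/
def tact (e : Fin k → ℕ) (g : SpecialLinearGroup (Fin 2) F) (t : (Fin k → Fin 2) → F) : (Fin k → Fin 2) → F :=
  fun ε => ∑ δ, (∏ a, g.1 (ε a) (δ a) ^ 2 ^ e a) * t δ

theorem act_tf [CharP F 2] (e : Fin k → ℕ) (g : SpecialLinearGroup (Fin 2) F) (t : (Fin k → Fin 2) → F) :
    act g (tf e t) = tf e (tact e g t) := by
  classical
  funext v
  rw [act_apply, tf_apply, tf_apply]
  have h1 : ∀ δ : Fin k → Fin 2, ∏ a, (v ᵥ* g.1) (δ a) ^ 2 ^ e a =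
      ∑ ε : Fin k → Fin 2, ∏ a, v (ε a) ^ 2 ^ e a * g.1 (ε a) (δ a) ^ 2 ^ e a := by
    intro δ
    have h2 : ∀ a, (v ᵥ* g.1) (δ a) ^ 2 ^ e a = ∑ b : Fin 2, v b ^ 2 ^ e a * g.1 b (δ a) ^ 2 ^ e a := by
      intro a
      rw [Matrix.vecMul, dotProduct, sum_pow_char_pow]
      exact Finset.sum_congr rfl fun b _ => mul_pow _ _ _
    rw [Finset.prod_congr rfl fun a _ => h2 a, Finset.prod_univ_sum, Fintype.piFinset_univ]
  simp only [h1, tact, Finset.mul_sum, Finset.sum_mul]
  rw [Finset.sum_comm]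
  refine Finset.sum_congr rfl fun ε _ => Finset.sum_congr rfl fun δ _ => ?_
  rw [Finset.prod_mul_distrib]
  ring

variable [Fintype F] {m : ℕ} {I : Finset ℕ}

omit [Fintype F] in
theorem prod_eq_mono {e : Fin k → ℕ} (he : Function.Injective e) (hI : univ.image e = I) (ε : Fin k → Fin 2)
    (v : Fin 2 → F) : ∏ a, v (ε a) ^ 2 ^ e a = mono I ((univ.filter fun a => ε a = 0).image e) v := by
  classical
  have h1 : I \ ((univ.filter fun a => ε a = 0).image e) = (univ.filter fun a => ¬ ε a = 0).image e := by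
    ext x
    simp only [← hI, Finset.mem_sdiff, Finset.mem_image, Finset.mem_filter, Finset.mem_univ, true_and]
    constructor
    · rintro ⟨⟨a, rfl⟩, h⟩
      exact ⟨a, fun h0 => h ⟨a, h0, rfl⟩, rfl⟩
    · rintro ⟨a, h, rfl⟩
      refine ⟨⟨a, rfl⟩, ?_⟩
      rintro ⟨b, hb, hba⟩
      rw [he hba] at hb
      exact h hb
  rw [mono_apply, h1, pow_bits, pow_bits, Finset.prod_image (fun a _ b _ h => he h),
    Finset.prod_image (fun a _ b _ h => he h), ← Finset.prod_filter_mul_prod_filter_not univ (fun a => ε a = 0)]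
  congr 1
  · refine Finset.prod_congr rfl fun a ha => ?_
    rw [(Finset.mem_filter.1 ha).2]
  · refine Finset.prod_congr rfl fun a ha => ?_
    have : ε a = 1 := by
      have := (Finset.mem_filter.1 ha).2
      omega
    rw [this]

omit [Fintype F] in
theorem range_tf {e : Fin k → ℕ} (he : Function.Injective e) (hI : univ.image e = I) :
    LinearMap.range (tf (F := F) e) = L F I := by
  classical
  refine le_antisymm ?_ ?_
  · rintro _ ⟨t, rfl⟩
    have : tf e t = ∑ ε, t ε • (mono I ((univ.filter fun a => ε a = 0).image e) : (Fin 2 → F) → F) := by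
      funext v
      rw [tf_apply, Finset.sum_apply]
      refine Finset.sum_congr rfl fun ε _ => ?_
      rw [prod_eq_mono he hI]
      rfl
    rw [this]
    refine Submodule.sum_mem _ fun ε _ => Submodule.smul_mem _ _ (mono_mem ?_)
    rw [← hI]
    exact Finset.image_subset_image (Finset.subset_univ _)
  · rw [L, Submodule.span_le]
    rintro _ ⟨⟨J, hJ⟩, rfl⟩
    have hJ' := Finset.mem_powerset.1 hJ
    let ε : Fin k → Fin 2 := fun a => if e a ∈ J then 0 else 1
    refine ⟨Pi.single ε 1, ?_⟩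
    funext v
    rw [tf_apply, Finset.sum_eq_single ε]
    · rw [Pi.single_eq_same, one_mul, prod_eq_mono he hI]
      congr 1
      ext x
      simp only [Finset.mem_image, Finset.mem_filter, Finset.mem_univ, true_and, ε]
      constructor
      · rintro ⟨a, ha, rfl⟩
        by_contra h
        rw [if_neg h] at ha
        exact absurd ha (by decide)
      · intro hx
        have := hJ' hx
        rw [← hI] at this
        obtain ⟨a, _, rfl⟩ := Finset.mem_image.1 this
        exact ⟨a, if_pos hx, rfl⟩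
    · intro δ _ h
      rw [Pi.single_eq_of_ne h, zero_mul]
    · exact fun h => absurd (Finset.mem_univ _) h

theorem tf_injective (hF : Fintype.card F = 2 ^ m) {e : Fin k → ℕ} (he : Function.Injective e)
    (hI : univ.image e = I) (hIm : I ⊆ range m) : Function.Injective (tf (F := F) e) := by
  classical
  have h1 : Module.finrank F (LinearMap.range (tf (F := F) e)) = 2 ^ k := by
    rw [range_tf he hI, finrank_L hF hIm, ← hI, Finset.card_image_of_injective _ he, Finset.card_univ,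
      Fintype.card_fin]
  have h2 := LinearMap.finrank_range_add_finrank_ker (tf (F := F) e)
  have h3 : Module.finrank F ((Fin k → Fin 2) → F) = 2 ^ k := by
    rw [Module.finrank_fintype_fun_eq_card]
    simp
  rw [h1, h3] at h2
  rw [← LinearMap.ker_eq_bot]
  exact Submodule.finrank_eq_zero.1 (by omega)

/-- the Frobenius on the function of a tensor -/
theorem tf_frob [CharP F 2] (hF : Fintype.card F = 2 ^ m) {d : ℕ} {e : Fin k → ℕ} {s : Fin k → Fin k}
    (hs : Function.Bijective s) (hes : ∀ a, e (s a) % m = (e a + d) % m) (t : (Fin k → Fin 2) → F)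
    (v : Fin 2 → F) : tf e t v ^ 2 ^ d = tf e (fun ε => t (ε ∘ s) ^ 2 ^ d) v := by
  classical
  rw [tf_apply, tf_apply, sum_pow_char_pow]
  let σ : Fin k ≃ Fin k := Equiv.ofBijective s hs
  let τ : (Fin k → Fin 2) ≃ (Fin k → Fin 2) := Equiv.arrowCongr σ.symm (Equiv.refl _)
  have hτ : ∀ ε, τ ε = ε ∘ s := fun ε => rfl
  rw [← Equiv.sum_comp τ]
  refine Finset.sum_congr rfl fun ε _ => ?_
  rw [mul_pow, hτ, ← Finset.prod_pow]
  congr 1
  rw [← Equiv.prod_comp σ fun a => v (ε a) ^ 2 ^ e a]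
  refine Finset.prod_congr rfl fun a _ => ?_
  change (v (ε (s a)) ^ 2 ^ e a) ^ 2 ^ d = v (ε (s a)) ^ 2 ^ e (s a)
  rw [← pow_mul, ← pow_add, pow_two_pow_mod hF, ← hes, ← pow_two_pow_mod hF]

/-- the tensors with `t ε = (t (ε ∘ s)) ^ 2^d` -/
def TM (F : Type u) [Field F] [CharP F 2] (s : Fin k → Fin k) (d : ℕ) : AddSubgroup ((Fin k → Fin 2) → F) where
  carrier := {t | ∀ ε, t ε = t (ε ∘ s) ^ 2 ^ d}
  add_mem' := fun {a b} ha hb ε => by
    change a ε + b ε = (a (ε ∘ s) + b (ε ∘ s)) ^ 2 ^ d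
    rw [add_pow_char_pow, ← ha, ← hb]
  zero_mem' := fun ε => by
    change (0 : F) = 0 ^ 2 ^ d
    rw [zero_pow (by positivity)]
  neg_mem' := fun {a} ha ε => by
    change - a ε = (- a (ε ∘ s)) ^ 2 ^ d
    rw [CharTwo.neg_eq, CharTwo.neg_eq]
    exact ha ε

omit [Fintype F] in
theorem mem_TM [CharP F 2] {s : Fin k → Fin k} {d : ℕ} {t : (Fin k → Fin 2) → F} :
    t ∈ TM F s d ↔ ∀ ε, t ε = t (ε ∘ s) ^ 2 ^ d := Iff.rfl

/-- `W` is the space of the functions of the tensors in `TM F s d` -/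
theorem Form.mem_iff_tf [CharP F 2] (hF : Fintype.card F = 2 ^ m) {W : AddSubgroup ((Fin 2 → F) → F)}
    (h : Form F I W) (hIm : I ⊆ range m) {d : ℕ} (hD : ∀ x : F, x ∈ h.D ↔ x ^ 2 ^ d = x)
    {e : Fin k → ℕ} (he : Function.Injective e) (hI : univ.image e = I) {s : Fin k → Fin k}
    (hs : Function.Bijective s) (hes : ∀ a, e (s a) % m = (e a + d) % m) {f : (Fin 2 → F) → F} :
    f ∈ W ↔ ∃ t ∈ TM F s d, f = tf e t := by
  rw [h.mem_iff hF hIm]
  constructor
  · rintro ⟨hf, hv⟩
    rw [← range_tf he hI] at hf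
    obtain ⟨t, rfl⟩ := hf
    refine ⟨t, ?_, rfl⟩
    have h1 : tf e t = tf e fun ε => t (ε ∘ s) ^ 2 ^ d := by
      funext v
      rw [← tf_frob hF hs hes, (hD _).1 (hv v)]
    have h2 := tf_injective hF he hI hIm h1
    exact fun ε => congrFun h2 ε
  · rintro ⟨t, ht, rfl⟩
    refine ⟨?_, fun v => ?_⟩
    · rw [← range_tf he hI]
      exact ⟨t, rfl⟩
    · rw [hD, tf_frob hF hs hes]
      congr 1
      rw [show (fun ε => t (ε ∘ s) ^ 2 ^ d) = t from funext fun ε => (ht ε).symm]

/-- the isomorphism of `W` with `TM F s d` -/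
theorem Form.model [CharP F 2] (hF : Fintype.card F = 2 ^ m) {W : AddSubgroup ((Fin 2 → F) → F)}
    (h : Form F I W) (hIm : I ⊆ range m) {d : ℕ} (hD : ∀ x : F, x ∈ h.D ↔ x ^ 2 ^ d = x)
    {e : Fin k → ℕ} (he : Function.Injective e) (hI : univ.image e = I) {s : Fin k → Fin k}
    (hs : Function.Bijective s) (hes : ∀ a, e (s a) % m = (e a + d) % m) :
    ∃ φ : W ≃+ TM F s d, ∀ f, tf e ((φ f : TM F s d) : (Fin k → Fin 2) → F) = (f : (Fin 2 → F) → F) := by
  classical
  let ψ : TM F s d →+ W :=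
    { toFun := fun t => ⟨tf e t.1, (h.mem_iff_tf hF hIm hD he hI hs hes).2 ⟨t.1, t.2, rfl⟩⟩
      map_zero' := Subtype.ext (map_zero _)
      map_add' := fun x y => Subtype.ext (map_add _ _ _) }
  have hψ : Function.Bijective ψ := by
    constructor
    · intro x y hxy
      exact Subtype.ext (tf_injective hF he hI hIm (congrArg Subtype.val hxy))
    · rintro ⟨f, hf⟩
      obtain ⟨t, ht, rfl⟩ := (h.mem_iff_tf hF hIm hD he hI hs hes).1 hf
      exact ⟨⟨t, ht⟩, rfl⟩
  refine ⟨(AddEquiv.ofBijective ψ hψ).symm, fun f => ?_⟩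
  have := (AddEquiv.ofBijective ψ hψ).apply_symm_apply f
  exact congrArg Subtype.val this

end Cfsg.Agent.Omega.KM
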